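import Cfsg.Agent.Lib.SuzukiType.Classes

/-!
Exactly two classes of involutions in a group of Suzuki sporadic type.
-/

set_option autoImplicit false

namespace Cfsg.Agent.SuzukiType

open Subgroup Cfsg.Agent.LargeExtra

variable {G : Type*} [Group G] [Finite G]

/-- A Sylow 2-subgroup lies in the centralizer, so every involution is conjugate into it. -/
theorem exists_conj_cent {Q : Subgroup G} {z : G} (h : Ctr Q z) {x : G} (hxx : x * x = 1) :
    ∃ g : G, g * x * g⁻¹ * z = z * (g * x * g⁻¹) := by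
  haveI : Fact (Nat.Prime 2) := ⟨Nat.prime_two⟩
  obtain ⟨P, hP⟩ := h.pgroup.exists_le_sylow
  haveI : Nontrivial (P : Subgroup G) :=
    ⟨⟨⟨z, hP h.z_mem⟩, 1, fun e => h.ne_one (congrArg Subtype.val e)⟩⟩
  haveI := P.isPGroup'.center_nontrivial
  obtain ⟨⟨⟨w, hwP⟩, hwc⟩, hw1⟩ := exists_ne (1 : Subgroup.center (P : Subgroup G))
  have hw1' : w ≠ 1 := fun e0 => hw1 (Subtype.ext (Subtype.ext e0))
  have hcomm : ∀ s ∈ (P : Subgroup G), s * w = w * s := fun s hs =>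
    congrArg Subtype.val (mem_center_iff.1 hwc ⟨s, hs⟩)
  have hwz : w = z := by
    have : w ∈ centralizer (Q : Set G) := mem_centralizer_iff.2 fun q hq => hcomm q (hP hq)
    rw [h.cent] at this
    exact (h.mem_zpowers_cases this).resolve_left hw1'
  have hp : IsPGroup 2 (zpowers x) := fun ⟨y, k, hk⟩ => ⟨1, Subtype.ext (by
    show y ^ 2 ^ 1 = 1
    rw [← hk]
    show (x ^ k) ^ 2 ^ 1 = 1
    rw [pow_one, pow_two, ← zpow_add, ← two_mul, zpow_mul, zpow_two, hxx, one_zpow])⟩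
  obtain ⟨T, hT⟩ := hp.exists_le_sylow
  obtain ⟨g, hg⟩ := MulAction.exists_smul_eq G T P
  refine ⟨g, ?_⟩
  rw [← hwz]
  apply hcomm
  rw [← hg, Sylow.coe_subgroup_smul, ← MulAut.conj_apply]
  exact Subgroup.smul_mem_pointwise_smul _ _ _ (hT (mem_zpowers x))

theorem two_classes (z : G) (hz : orderOf z = 2) (Q : Subgroup (centralizer ({z} : Set G))) [Q.Normal]
    (hF : Cfsg.generalizedFittingSubgroup (centralizer ({z} : Set G)) = Q) (hQ : Cfsg.IsExtraspecial 2 Q)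
    (hcard : Nat.card Q = 2 ^ 7)
    (e : (centralizer ({z} : Set G)) ⧸ Q ≃* Cfsg.Omega (ZMod 2) (Cfsg.quadFormMinus 2 (ZMod 2) 1 1))
    (hnwc : ∃ g : G, (∃ hq : g * z * g⁻¹ ∈ centralizer ({z} : Set G),
      (⟨g * z * g⁻¹, hq⟩ : centralizer ({z} : Set G)) ∈ Q) ∧ g * z * g⁻¹ ≠ z) :
    ∃ a b : G, orderOf a = 2 ∧ orderOf b = 2 ∧ ¬ IsConj a b ∧
      ∀ x : G, orderOf x = 2 → IsConj x a ∨ IsConj x b := by
  classical
  set Q0 := Q.map (centralizer ({z} : Set G)).subtype with hQ0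
  have hc0 : Nat.card ↥Q0 = 128 := by
    rw [hQ0, card_map_of_injective (centralizer ({z} : Set G)).subtype_injective, hcard]; norm_num
  have h : Ctr Q0 z := Ctr.of_fitting hz (map_subtype_le _) (by rw [hF])
    (isExtraspecial_of_equiv hQ (Q.equivMapOfInjective _ (centralizer ({z} : Set G)).subtype_injective))
  obtain ⟨g, ⟨hgC, hgQ⟩, hgz⟩ := hnwc
  have hgQ0 : g * z * g⁻¹ ∈ Q0 := ⟨_, hgQ, rfl⟩
  have P := (Pair.mk' h hgQ0 hgz).two (by omega)
  have hzz := h.zz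
  have ha1 : g * z * g⁻¹ ≠ 1 := fun e0 => h.ne_one (conj_eq_one_iff.1 e0)
  have haa : g * z * g⁻¹ * (g * z * g⁻¹) = 1 := by
    calc g * z * g⁻¹ * (g * z * g⁻¹) = g * (z * z) * g⁻¹ := by group
      _ = 1 := by rw [hzz]; group
  have heF : Cfsg.Omega (ZMod 2) (Cfsg.quadFormMinus 2 (ZMod 2) 1 1) ≃*
      ↥(Cfsg.Omega (ZMod 2) ⇑F6) := by
    rw [show F6 = Classical.OrthForms.minQ (ZMod 2) 2 1 1 from rfl, Classical.OrthForms.minQ_eq]
  let π0 : ↥(centralizer ({z} : Set G)) →* ↥(Cfsg.Omega (ZMod 2) ⇑F6) :=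
    heF.toMonoidHom.comp (e.toMonoidHom.comp (QuotientGroup.mk' Q))
  have hsurj : Function.Surjective π0 :=
    heF.surjective.comp (e.surjective.comp (QuotientGroup.mk'_surjective Q))
  have hker : ∀ c, π0 c = 1 ↔ (c : G) ∈ Q0 := fun c => by
    show heF (e (QuotientGroup.mk' Q c)) = 1 ↔ _
    rw [MulEquiv.map_eq_one_iff, MulEquiv.map_eq_one_iff]
    refine (QuotientGroup.eq_one_iff c).trans ⟨fun hc => ⟨c, hc, rfl⟩, ?_⟩
    rintro ⟨d, hd, hdc⟩
    rwa [← Subtype.ext hdc]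
  obtain ⟨F⟩ := frame_exists h hc0 π0 hsurj hker hgQ0 haa ha1 hgz
  let S : St Q0 _ z (g * z * g⁻¹) := ⟨P, F⟩
  obtain ⟨k, m, hk, hkv, hm, hmz, hmw, hsq⟩ := S.exists_second
  have hne := S.not_conj hk hkv hm hmz hmw (by omega)
  have hb1 : k * m ≠ 1 := fun e0 => by
    have h1 : S.act' (k * m) = S.act' 1 := by rw [e0]
    rw [S.act'_mul (S.qz hk) hmz, S.act'_q hk, one_mul, S.act'_q Q0.one_mem] at h1
    have h2 : wof (S.act' m) = wof 1 := by rw [h1]
    rw [hmw, wof, OctadInv.Orbits.act_one, pw_f1] at h2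
    exact absurd h2 (by decide)
  refine ⟨z, k * m, hz, orderOf_eq_prime (by rw [pow_two, hsq]) hb1, hne, fun x hx => ?_⟩
  have hxx : x * x = 1 := by rw [← pow_two, ← hx, pow_orderOf_eq_one]
  obtain ⟨u, hu⟩ := exists_conj_cent h hxx
  have hconj : IsConj x (u * x * u⁻¹) := isConj_iff.2 ⟨u, rfl⟩
  have hu1 : u * x * u⁻¹ ≠ 1 := fun e0 => by
    rw [conj_eq_one_iff.1 e0, orderOf_one] at hx
    omega
  rcases S.conj_cases hk hkv hm hmz hmw hu (by
    calc u * x * u⁻¹ * (u * x * u⁻¹) = u * (x * x) * u⁻¹ := by group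
      _ = 1 := by rw [hxx]; group) hu1 with e0 | e0
  · exact Or.inl (hconj.trans e0)
  · exact Or.inr (hconj.trans e0)

end Cfsg.Agent.SuzukiType
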