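import Cfsg.Agent.Lib.SuzukiType.Geometry
import Cfsg.Agent.Lib.OctadInv.Orbits
import Cfsg.Agent.Lib.Classical.OrthForms
import Cfsg.Agent.Lib.Classical.OrthSimple
import Cfsg.Agent.Lib.Forms.SpecialOrth
import Cfsg.Agent.Lib.LargeExtra.ExtFormTypes

/-!
Isometries of the six-dimensional space of minus type: reflections and `Ω`, the transvection group of
`e1`, and the shape of the involutions of `Ω`.
-/

set_option autoImplicit false
set_option maxRecDepth 20000

namespace Cfsg.Agent.SuzukiType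

open Cfsg.Agent.OctadInv.Orbits Cfsg.Agent.LargeExtra.ExtForm Cfsg.Agent.Classical
  Cfsg.Agent.Classical.OrthForms

/-- The form as a quadratic form. -/
noncomputable abbrev F6 : QuadraticForm (ZMod 2) V := minQ (ZMod 2) 2 1 1

/-- The isometry group. -/
noncomputable abbrev O6 : Subgroup (Matrix.GeneralLinearGroup ((Fin 2 ⊕ Fin 2) ⊕ Fin 2) (ZMod 2)) :=
  Cfsg.isometryGroup (ZMod 2) ⇑F6

theorem anis : ∀ z₁ z₂ : ZMod 2, z₁ ^ 2 + 1 * z₁ * z₂ + 1 * z₂ ^ 2 = 0 → z₁ = 0 ∧ z₂ = 0 := by decide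

theorem omega_index : (Cfsg.Omega (ZMod 2) ⇑F6).index = 2 :=
  Cfsg.Agent.Forms.SpecialOrth.omega_index_two (minQ_nondeg 2 anis) (Or.inr (by simp)) (by simp)

theorem omega_simple : IsSimpleGroup (Cfsg.Omega (ZMod 2) ⇑F6) := by
  have hs := Orth.isSimpleGroup_POmega (minQ_nondeg 2 anis) (minFrame (ZMod 2) le_rfl 1 1) (by simp)
  have hc := Orth.natCard_center_one (minQ_nondeg 2 anis) (minFrame (ZMod 2) le_rfl 1 1) (by simp)
    (Or.inl (by decide))
  rw [Subgroup.card_eq_one] at hc
  let e := (QuotientGroup.quotientMulEquivOfEq hc).trans QuotientGroup.quotientBot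
  haveI := hs
  haveI : Nontrivial (Cfsg.Omega (ZMod 2) ⇑F6) := e.symm.toEquiv.nontrivial
  exact IsSimpleGroup.isSimpleGroup_of_surjective e.toMonoidHom e.surjective

theorem z2 (x : ZMod 2) : x = 0 ∨ x = 1 := by revert x; decide

theorem sm_eq (t : ZMod 2) (v : V) : sm t v = t • v := rfl

theorem sm_zero (v : V) : sm 0 v = 0 := by rw [sm_eq, zero_smul]

theorem sm_one (v : V) : sm 1 v = v := by rw [sm_eq, one_smul]

theorem add_self_V (v : V) : v + v = 0 := by
  funext i
  exact CharTwo.add_self_eq_zero _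

theorem eq_of_add (v w : V) (h : v + w = 0) : v = w := by
  calc v = v + (w + w) := by rw [add_self_V, add_zero]
    _ = _ := by rw [← add_assoc, h, zero_add]

@[simp] theorem x1_add (v w : V) : x1 (v + w) = x1 v + x1 w := rfl
@[simp] theorem y1_add (v w : V) : y1 (v + w) = y1 v + y1 w := rfl
@[simp] theorem x2_add (v w : V) : x2 (v + w) = x2 v + x2 w := rfl
@[simp] theorem y2_add (v w : V) : y2 (v + w) = y2 v + y2 w := rfl
@[simp] theorem za_add (v w : V) : za (v + w) = za v + za w := rfl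
@[simp] theorem zb_add (v w : V) : zb (v + w) = zb v + zb w := rfl

theorem bf_add_left (u v w : V) : bf (u + v) w = bf u w + bf v w := by
  simp only [bf, x1_add, y1_add, x2_add, y2_add, za_add, zb_add]; ring

theorem bf_comm (v w : V) : bf v w = bf w v := by simp only [bf]; ring

theorem bf_add_right (u v w : V) : bf u (v + w) = bf u v + bf u w := by
  rw [bf_comm, bf_add_left, bf_comm v, bf_comm w]

theorem bf_zero_left (w : V) : bf 0 w = 0 := by
  have h := bf_add_left 0 0 w
  rwa [zero_add, left_eq_add] at h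

theorem bf_zero_right (w : V) : bf w 0 = 0 := by rw [bf_comm, bf_zero_left]

theorem qf_add (v w : V) : qf (v + w) = qf v + qf w + bf v w := by
  simp only [qf, bf, x1_add, y1_add, x2_add, y2_add, za_add, zb_add]
  linear_combination (za v * za w + zb v * zb w) * (CharTwo.two_eq_zero : (2 : ZMod 2) = 0)

theorem bf_self (v : V) : bf v v = 0 := by
  have h2 : ∀ x : ZMod 2, x + x = 0 := CharTwo.add_self_eq_zero
  simp only [bf]
  linear_combination h2 (x1 v * y1 v) + h2 (x2 v * y2 v) + h2 (za v * zb v)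

theorem qf_eq : qf = Cfsg.quadFormMinus 2 (ZMod 2) 1 1 := by
  funext v
  simp only [qf, x1, y1, x2, y2, za, zb, Cfsg.quadFormMinus, Fin.sum_univ_two]
  ring

theorem F_apply (v : V) : F6 v = qf v := by
  rw [qf_eq, ← Cfsg.Agent.Classical.OrthForms.minQ_eq]

theorem β_self (v : V) : β (Bminus 2) v v = qf v := by rw [qf_eq, quadFormMinus_eq]

theorem β_symm (v w : V) : β (Bminus 2) v w + β (Bminus 2) w v = bf v w := by
  have h := qf_add v w
  rw [← β_self, ← β_self, ← β_self, β_add_left, β_add_right, β_add_right] at h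
  linear_combination h

theorem pw_mem (v : V) : InW (pw v) := ⟨rfl, rfl⟩

theorem pw_eq {v : V} (h : InW v) : pw v = v := by
  rw [eq_iff_coord]
  exact ⟨h.1.symm, h.2.symm, rfl, rfl, rfl, rfl⟩

theorem pw_add (v w : V) : pw (v + w) = pw v + pw w := by
  rw [eq_iff_coord]
  refine ⟨?_, ?_, rfl, rfl, rfl, rfl⟩ <;> exact (add_zero 0).symm

theorem InW.add {v w : V} (hv : InW v) (hw : InW w) : InW (v + w) :=
  ⟨by rw [x1_add, hv.1, hw.1, add_zero], by rw [y1_add, hv.2, hw.2, add_zero]⟩

theorem bf_e1 (v : V) : bf v e1 = y1 v := by simp [bf, e1, mk, x1, y1, x2, y2, za, zb]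

theorem bf_f1 (v : V) : bf v f1 = x1 v := by simp [bf, f1, mk, x1, y1, x2, y2, za, zb]

theorem bf_pw {v : V} (hv : y1 v = 0) {w : V} (hw : InW w) : bf (pw v) w = bf v w := by
  simp only [bf, hw.1, hw.2, hv]
  simp [pw, mk, x1, y1, x2, y2, za, zb]

theorem qf_pw {v : V} (hv : y1 v = 0) : qf (pw v) = qf v := by
  simp only [qf, hv]
  simp [pw, mk, x1, y1, x2, y2, za, zb]

theorem eq_pw_of_y1 {v : V} (hv : y1 v = 0) : v = pw v + sm (x1 v) e1 := by
  rw [eq_iff_coord]
  simp [pw, sm, e1, mk, x1, y1, x2, y2, za, zb] at hv ⊢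
  exact hv

theorem pw_e1 : pw e1 = 0 := by decide
theorem pw_f1 : pw f1 = 0 := by decide

theorem pw_sm (t : ZMod 2) (v : V) : pw (sm t v) = sm t (pw v) := by
  rw [eq_iff_coord]
  simp [pw, sm, mk, x1, y1, x2, y2, za, zb]

theorem pw_cases {v : V} (hv : y1 v = 0) (h : pw v = 0) : v = 0 ∨ v = e1 := by
  have e := eq_pw_of_y1 hv
  rw [h, zero_add] at e
  rcases z2 (x1 v) with t | t <;> rw [t] at e
  · left; rw [e, sm_zero]
  · right; rw [e, sm_one]

/-! ### Isometries -/

theorem act_zero (A : O6) : act A 0 = 0 := Matrix.mulVec_zero _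

theorem act_sm (A : O6) (t : ZMod 2) (v : V) : act A (sm t v) = sm t (act A v) := by
  rw [sm_eq, sm_eq]; exact Matrix.mulVec_smul _ t v

theorem act_qf (A : O6) (v : V) : qf (act A v) = qf v := by
  have := act_form A v
  rwa [F_apply, F_apply] at this

theorem act_bf (A : O6) (v w : V) : bf (act A v) (act A w) = bf v w := by
  have h := qf_add (act A v) (act A w)
  rw [← act_add, act_qf, act_qf, act_qf, qf_add v w] at h
  linear_combination -h

theorem polar_F (v w : V) : QuadraticMap.polar (F6) v w = bf v w := by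
  rw [QuadraticMap.polar, F_apply, F_apply, F_apply, qf_add]; ring

/-- The reflection. -/
noncomputable def rfl' (r : V) : O6 := Cfsg.Agent.Forms.QuadStd.reflect (F6) r

theorem act_rfl' {r : V} (hr : qf r = 1) (v : V) : act (rfl' r) v = R r v := by
  have h := Cfsg.Agent.Forms.Reflections.act_reflect (Q := F6) r v
  rw [Cfsg.Agent.Forms.Reflections.act_apply, polar_F, F_apply, hr, inv_one, one_mul, ← sm_eq] at h
  refine h.trans ?_
  funext i
  exact (CharTwo.sub_eq_add _ _ : (v i : ZMod 2) - sm (bf r v) r i = v i + sm (bf r v) r i)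

theorem rfl'_sq (r : V) : rfl' r * rfl' r = 1 := Cfsg.Agent.Forms.Reflections.reflect_sq r

theorem nondegF : (QuadraticMap.polarBilin (F6)).Nondegenerate :=
  Cfsg.Agent.Classical.OrthForms.minQ_nondeg 2 anis

theorem par_mul' (g h : O6) : Cfsg.Agent.Forms.Reflections.par (g * h) =
    Cfsg.Agent.Forms.Reflections.par g * Cfsg.Agent.Forms.Reflections.par h :=
  Cfsg.Agent.Forms.Reflections.par_mul_all nondegF (Or.inr (by simp)) g h

theorem par_omega {g : O6} (hg : g ∈ Cfsg.Omega (ZMod 2) ⇑(F6)) : Cfsg.Agent.Forms.Reflections.par g = 1 :=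
  MonoidHom.mem_ker.1 (Abelianization.commutator_subset_ker
    (MonoidHom.mk' Cfsg.Agent.Forms.Reflections.par par_mul') hg)

theorem rfl'_notMem {r : V} (hr : qf r = 1) : rfl' r ∉ Cfsg.Omega (ZMod 2) ⇑(F6) := by
  intro h
  have h1 := par_omega h
  have h2 := Cfsg.Agent.Forms.Reflections.par_reflect_mul nondegF
    (v := r) (by rw [F_apply, hr]; exact one_ne_zero) (1 : O6)
  rw [mul_one, Cfsg.Agent.Forms.Reflections.par_one] at h2
  rw [show rfl' r = Cfsg.Agent.Forms.QuadStd.reflect (F6) r from rfl, h2] at h1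
  exact absurd h1 (by decide)

theorem pair_mem {r s : V} (hr : qf r = 1) (hs : qf s = 1) :
    rfl' r * rfl' s ∈ Cfsg.Omega (ZMod 2) ⇑(F6) := by
  rw [Subgroup.mul_mem_iff_of_index_two omega_index]
  exact iff_of_false (rfl'_notMem hr) (rfl'_notMem hs)

/-- Transitivity of `Ω` on the singular vectors. -/
theorem exists_to_e1 {v : V} (hv : v ≠ 0) (hq : qf v = 0) :
    ∃ A ∈ Cfsg.Omega (ZMod 2) ⇑(F6), act A v = e1 := by
  rcases transitive v hv hq with e | ⟨r, hr, s, hs, e⟩
  · exact ⟨1, one_mem _, by rw [act_one, e]⟩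
  · exact ⟨_, pair_mem hr hs, by rw [act_mul, act_rfl' hs, act_rfl' hr, e]⟩

/-! ### The transvection group of `e1` -/

/-- Fixing `e1` and trivial on `e1ᗮ/e1`. -/
def InRad (g : O6) : Prop :=
  act g e1 = e1 ∧ ∀ v, y1 v = 0 → act g v + v = 0 ∨ act g v + v = e1

/-- The parameter. -/
noncomputable def wof (g : O6) : V := pw (act g f1)

theorem bf_f1_e1 : bf f1 e1 = 1 := by decide

theorem qf_f1 : qf f1 = 0 := by decide

theorem y1_f1 : y1 f1 = 1 := by decide

theorem InRad.act_eq {g : O6} (hg : InRad g) (v : V) : act g v = T (wof g) v := by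
  set u := act g f1 with hu
  have hu0 : qf u = 0 := by rw [hu, act_qf, qf_f1]
  have hue : bf u e1 = 1 := by
    conv_lhs => rw [hu, ← hg.1, act_bf]
    exact bf_f1_e1
  set v0 := v + sm (y1 v) f1 with hv0
  have hy0 : y1 v0 = 0 := by
    rw [hv0, y1_add, show y1 (sm (y1 v) f1) = y1 v * y1 f1 from rfl, y1_f1, mul_one]
    exact CharTwo.add_self_eq_zero _
  obtain ⟨t, ht⟩ : ∃ t, act g v0 = v0 + sm t e1 := by
    rcases hg.2 v0 hy0 with e | e
    · exact ⟨0, by rw [sm_zero, add_zero, eq_of_add _ _ e]⟩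
    · refine ⟨1, ?_⟩
      rw [sm_one, ← e, add_comm (act g v0), ← add_assoc, add_self_V, zero_add]
  have hb : bf u (v0 + sm t e1) = bf f1 v0 := by rw [← ht, hu, act_bf]
  have key := determine u v hu0 hue t hb
  rw [wof, ← key, ← hv0, ← ht, hu, ← act_sm, ← act_add, hv0, add_assoc, add_self_V, add_zero]

theorem InRad.ext' {g h : O6} (hg : InRad g) (hh : InRad h) (e : wof g = wof h) : g = h :=
  ext_act fun v => by rw [hg.act_eq, hh.act_eq, e]

theorem inW_wof (g : O6) : InW (wof g) := pw_mem _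

theorem T_zero (v : V) : T 0 v = v := by
  have e : qf 0 = 0 := by decide
  rw [T, bf_zero_left, sm_zero, add_zero, e, sm_zero, add_zero, sm_eq, smul_zero, add_zero]

theorem InRad.eq_one {g : O6} (hg : InRad g) (h : wof g = 0) : g = 1 :=
  ext_act fun v => by rw [hg.act_eq, h, T_zero, act_one]

theorem T_of_y1 (w : V) {v : V} (hv : y1 v = 0) : T w v + v = sm (bf w v) e1 := by
  rw [T, hv, sm_zero, add_zero, add_right_comm, add_self_V, zero_add]

theorem T_f1 {w : V} (hw : InW w) : T w f1 + f1 = sm (qf w) e1 + w := by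
  rw [T, bf_f1, hw.1, sm_zero, add_zero, y1_f1, sm_one, add_right_comm, add_self_V, zero_add]

/-- Involutions of `Ω` have a singular centre of transvection. -/
theorem exists_axis {x : O6} (hΩ : x ∈ Cfsg.Omega (ZMod 2) ⇑(F6)) (hx : x * x = 1) (hne : x ≠ 1) :
    ∃ c : V, c ≠ 0 ∧ qf c = 0 ∧ act x c = c ∧
      ∀ v, bf v c = 0 → act x v + v = 0 ∨ act x v + v = c := by
  classical
  set D := Cfsg.Agent.Forms.Reflections.imSp x with hD
  have hmemD : ∀ v, act x v + v ∈ D := fun v => by
    rw [hD]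
    refine ⟨v, ?_⟩
    show Cfsg.Agent.Forms.Reflections.act x v - v = _
    rw [Cfsg.Agent.Forms.Reflections.act_apply]
    funext i
    exact CharTwo.sub_eq_add _ _
  have hD' : ∀ u ∈ D, ∃ v, u = act x v + v := by
    rintro u ⟨v, rfl⟩
    refine ⟨v, ?_⟩
    show Cfsg.Agent.Forms.Reflections.act x v - v = _
    rw [Cfsg.Agent.Forms.Reflections.act_apply]
    funext i
    exact CharTwo.sub_eq_add _ _
  have hxx : ∀ v, act x (act x v) = v := fun v => by rw [← act_mul, hx, act_one]
  have hfix : ∀ u ∈ D, act x u = u := fun u hu => by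
    obtain ⟨v, rfl⟩ := hD' u hu
    rw [act_add, hxx, add_comm]
  -- self-adjointness and the value of the form
  have hadj : ∀ v v', bf (act x v + v) v' = bf v (act x v' + v') := fun v v' => by
    rw [bf_add_left, bf_add_right]
    congr 1
    conv_lhs => rw [← hxx v', act_bf]
  have hval : ∀ v, qf (act x v + v) = bf (act x v + v) v := fun v => by
    rw [qf_add, act_qf, bf_add_left, bf_self, add_zero, CharTwo.add_self_eq_zero, zero_add]
  have hperp : ∀ u ∈ D, ∀ u' ∈ D, bf u u' = 0 := fun u hu u' hu' => by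
    obtain ⟨v, rfl⟩ := hD' u hu
    rw [hadj, hfix u' hu', add_self_V, bf_zero_right]
  -- the dimension
  have hle : Module.finrank (ZMod 2) D ≤ 3 := by
    have h1 : D ≤ Cfsg.Agent.Forms.Reflections.fixSp x := fun u hu => by
      rw [Cfsg.Agent.Forms.Reflections.mem_fixSp, Cfsg.Agent.Forms.Reflections.act_apply]
      exact hfix u hu
    have h2 := Cfsg.Agent.Forms.Reflections.finrank_imSp nondegF x
    have h3 := Submodule.finrank_mono h1
    simp only [Fintype.card_sum, Fintype.card_fin] at h2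
    rw [hD] at h3 ⊢
    omega
  have hpos : Module.finrank (ZMod 2) D ≠ 0 := by
    intro h0
    have hbot : D = ⊥ := Submodule.finrank_eq_zero.1 h0
    refine hne (ext_act fun v => ?_)
    have hv := hmemD v
    rw [hbot, Submodule.mem_bot] at hv
    rw [act_one, eq_of_add _ _ hv]
  have heven : Module.finrank (ZMod 2) D = 2 := by
    have h1 := par_omega hΩ
    have h2 := Cfsg.Agent.Forms.Reflections.finrank_imSp nondegF x
    simp only [Fintype.card_sum, Fintype.card_fin] at h2
    simp only [Cfsg.Agent.Forms.Reflections.par, Fintype.card_sum, Fintype.card_fin] at h1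
    generalize Module.finrank (ZMod 2) ↥(Cfsg.Agent.Forms.Reflections.fixSp x) = f at h1 h2
    generalize Module.finrank (ZMod 2) ↥D = n at h2 hle hpos ⊢
    by_contra hn
    rcases (by omega : n = 1 ∧ f = 5 ∨ n = 3 ∧ f = 3) with ⟨-, rfl⟩ | ⟨-, rfl⟩ <;>
      exact absurd h1 (by decide)
  have hcard : Nat.card D = 4 := by
    rw [Module.natCard_eq_pow_finrank (K := ZMod 2), heven, Nat.card_zmod]; rfl
  haveI : Finite D := inferInstance
  have hfour : ∀ u ∈ D, ∀ u' ∈ D, u ≠ 0 → u' ≠ 0 → u ≠ u' → ∀ t ∈ D, t = 0 ∨ t = u ∨ t = u' ∨ t = u + u' := by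
    intro u hu u' hu' h1 h2 h3 t ht
    by_contra hc
    push Not at hc
    have hinj : Function.Injective (fun i : Fin 5 => (![(⟨0, D.zero_mem⟩ : D), ⟨u, hu⟩, ⟨u', hu'⟩,
        ⟨u + u', D.add_mem hu hu'⟩, ⟨t, ht⟩] i : D)) := by
      have h4 : u + u' ≠ 0 := fun e => h3 (eq_of_add _ _ e)
      have h5 : u + u' ≠ u := fun e => h2 (add_eq_left.1 e)
      have h6 : u + u' ≠ u' := fun e => h1 (add_eq_right.1 e)
      intro i j e
      have e' := congrArg Subtype.val e
      fin_cases i <;> fin_cases j <;> simp at e' <;>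
        first
          | rfl
          | exact absurd e' h1 | exact absurd e'.symm h1
          | exact absurd e' h2 | exact absurd e'.symm h2
          | exact absurd e' h3 | exact absurd e'.symm h3
          | exact absurd e' h4 | exact absurd e'.symm h4
          | exact absurd e' h5 | exact absurd e'.symm h5
          | exact absurd e' h6 | exact absurd e'.symm h6
          | exact absurd e' hc.1 | exact absurd e'.symm hc.1
          | exact absurd e' hc.2.1 | exact absurd e'.symm hc.2.1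
          | exact absurd e' hc.2.2.1 | exact absurd e'.symm hc.2.2.1
          | exact absurd e' hc.2.2.2 | exact absurd e'.symm hc.2.2.2
    have := Nat.card_le_card_of_injective _ hinj
    rw [hcard, Nat.card_eq_fintype_card, Fintype.card_fin] at this
    omega
  -- a singular vector
  obtain ⟨c, hc, hc0, hcq⟩ : ∃ c ∈ D, c ≠ 0 ∧ qf c = 0 := by
    by_contra hcon
    push Not at hcon
    have h1 : ∀ u ∈ D, u ≠ 0 → qf u = 1 := fun u hu hu0 => (z2 _).resolve_left (hcon u hu hu0)
    obtain ⟨u, hu, hu0⟩ := Submodule.exists_mem_ne_zero_of_ne_bot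
      (fun e : D = ⊥ => hpos (by rw [e]; simp))
    obtain ⟨u', hu', hu0', huu'⟩ : ∃ u' ∈ D, u' ≠ 0 ∧ u' ≠ u := by
      by_contra hcon2
      push Not at hcon2
      have : Nat.card D ≤ Nat.card (Fin 2) := by
        refine Nat.card_le_card_of_surjective (fun i : Fin 2 =>
          (![(⟨0, D.zero_mem⟩ : D), ⟨u, hu⟩] i : D)) fun t => ?_
        by_cases ht : (t : V) = 0
        · exact ⟨0, Subtype.ext ht.symm⟩
        · exact ⟨1, Subtype.ext (hcon2 t t.2 ht).symm⟩
      rw [hcard, Nat.card_eq_fintype_card, Fintype.card_fin] at this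
      omega
    have h2 := h1 _ (D.add_mem hu hu') fun e => huu' (eq_of_add _ _ e).symm
    rw [qf_add, h1 u hu hu0, h1 u' hu' hu0', hperp u hu u' hu'] at h2
    exact absurd h2 (by decide)
  obtain ⟨v0, hv0⟩ := hD' c hc
  refine ⟨c, hc0, hcq, hfix c hc, fun v hv => ?_⟩
  by_contra hbad
  push Not at hbad
  set u := act x v + v with hu
  have hall := hfour c hc u (hmemD v) hc0 hbad.1 (fun e => hbad.2 e.symm)
  have hzero : ∀ v', (∀ t ∈ D, bf t v' = 0) → act x v' + v' = 0 := by
    intro v' h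
    by_contra h0
    obtain ⟨s, hs⟩ := nondeg_minus 2 _ h0
    have h1 : bf (act x v' + v') s ≠ 0 := fun e => hs (eq_of_add2 _ _ (by rw [β_symm, e]))
    rw [hadj, bf_comm, h _ (hmemD s)] at h1
    exact h1 rfl
  have hcv : bf c v = 0 := by rw [bf_comm]; exact hv
  have hcv0 : bf c v0 = 0 := by rw [hv0, ← hval, ← hv0, hcq]
  have huv0 : bf u v0 = 0 := by rw [hu, hadj, ← hv0, bf_comm, hcv]
  rcases z2 (qf u) with hq | hq
  · -- then `v` is fixed
    refine hbad.1 (hzero v fun t ht => ?_)
    have huv : bf u v = 0 := by rw [hu, ← hval, ← hu, hq]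
    rcases hall t ht with e | e | e | e <;> subst e
    · exact bf_zero_left _
    · exact hcv
    · exact huv
    · rw [bf_add_left, hcv, huv, add_zero]
  · refine hc0 (hv0.trans (hzero v0 fun t ht => ?_))
    rcases hall t ht with e | e | e | e <;> subst e
    · exact bf_zero_left _
    · exact hcv0
    · exact huv0
    · rw [bf_add_left, hcv0, huv0, add_zero]
where
  eq_of_add2 (a b : ZMod 2) (h : a + b = 0) : a = b := by
    revert h a b; decide

/-- Every involution of `Ω` is conjugate in `Ω` into the transvection group of `e1`. -/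
theorem exists_conj_inRad {x : O6} (hΩ : x ∈ Cfsg.Omega (ZMod 2) ⇑(F6)) (hx : x * x = 1) (hne : x ≠ 1) :
    ∃ A ∈ Cfsg.Omega (ZMod 2) ⇑(F6), InRad (A * x * A⁻¹) := by
  obtain ⟨c, hc0, hcq, hfix, htriv⟩ := exists_axis hΩ hx hne
  obtain ⟨A, hA, hAc⟩ := exists_to_e1 hc0 hcq
  have hAi : act A⁻¹ e1 = c := by rw [← hAc, act_inv_self]
  refine ⟨A, hA, ?_, fun v hv => ?_⟩
  · rw [act_mul, act_mul, hAi, hfix, hAc]
  · have h1 : bf (act A⁻¹ v) c = 0 := by rw [← hAi, act_bf, bf_e1, hv]
    have h2 : act (A * x * A⁻¹) v + v = act A (act x (act A⁻¹ v) + act A⁻¹ v) := by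
      rw [act_add, act_mul, act_mul, ← act_mul A A⁻¹ v, mul_inv_cancel, act_one]
    rw [h2]
    rcases htriv _ h1 with e | e <;> rw [e]
    · exact Or.inl (act_zero A)
    · exact Or.inr hAc

end Cfsg.Agent.SuzukiType
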