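import Cfsg.Agent.Lib.SuzukiType.Core

/-!
The involutions of the centralizer of `z` fall into two classes of the whole group.
-/

set_option autoImplicit false

namespace Cfsg.Agent.SuzukiType

open Subgroup Cfsg.Agent.LargeExtra Cfsg.Agent.OctadInv.Orbits
open scoped commutatorElement

variable {G : Type*} [Group G] [Finite G]

theorem T_zero_left (v : V) : T 0 v = v := T_zero v

theorem InW.zero_left {v : V} (h : InW v) (hv : v = 0 ∨ v = e1) : v = 0 := by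
  rcases hv with e | e
  · exact e
  · subst e; exact absurd h.1 (by decide)

theorem inW_k0 : InW k0 := ⟨rfl, rfl⟩

theorem inW_w0 : InW w0 := ⟨rfl, rfl⟩

theorem basis_k : qf k0 = 1 ∧ qf w0 = 1 ∧ bf w0 k0 = 1 := by decide

theorem T_w0 : T w0 k0 + k0 = e1 ∧ T w0 f1 = f1 + e1 + w0 := by decide

theorem pw_T_w0 : ∀ v : V, pw (T w0 v + v) = sm (y1 v) w0 := by decide +kernel

theorem basis_h : qf h1 = 0 ∧ qf h2 = 0 ∧ bf h1 h2 = 1 ∧ bf h1 k0 = 0 ∧ bf h1 w0 = 0 ∧ bf h2 k0 = 0 ∧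
    bf h2 w0 = 0 ∧ qf (h1 + h2) = 1 := by decide

theorem h1_out : InW h1 ∧ h1 ≠ 0 ∧ InW h2 ∧ h2 ≠ 0 ∧ bf h1 h1 = 0 := by decide

theorem decomp {v : V} (hv : y1 v = 0) :
    v = sm (x1 v) e1 + sm (x2 v) h1 + sm (y2 v) h2 + sm (za v) k0 + sm (zb v) w0 := by
  rw [eq_iff_coord]
  simp [sm, e1, h1, h2, k0, w0, mk, x1, y1, x2, y2, za, zb] at hv ⊢
  exact hv

theorem pw_zero : pw 0 = 0 := by decide

theorem bf_pw_pw {v w : V} (hv : y1 v = 0) (hw : y1 w = 0) : bf (pw v) (pw w) = bf v w := by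
  simp only [bf, hv, hw]
  simp [pw, mk, x1, y1, x2, y2, za, zb]

namespace St

variable {Q Q' : Subgroup G} {z a : G} (S : St Q Q' z a)
include S

theorem conj_z' : IsConj a z := by
  obtain ⟨g, hg⟩ := S.P.p.ex
  exact (isConj_iff.2 ⟨g, hg⟩).symm

/-- Non-central involutions of `Q` are conjugate to `z`. -/
theorem conj_of_mem {x : G} (hx : x ∈ Q) (hxx : x * x = 1) (hx1 : x ≠ 1) : IsConj x z := by
  by_cases hxz : x = z
  · subst hxz; exact IsConj.refl _
  have hv : S.F.vec x ≠ 0 := fun e => (S.F.vec_cases hx e).elim hx1 hxz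
  have hq : qf (S.F.vec x) = 0 := by
    have h0 := S.F.sq hx
    rw [hxx] at h0
    exact (zp_eq_one_iff S.h.ne_one).1 h0.symm
  obtain ⟨A, hA, hAv⟩ := exists_to_e1 hv hq
  obtain ⟨⟨c, hc⟩, hcA⟩ := S.F.lift A hA
  have hcz := mem_centralizer_singleton_iff.1 hc
  have hm : c * x * c⁻¹ ∈ Q := S.h.conj_mem hcz hx
  have hv' : S.F.vec (c * x * c⁻¹) = sm 1 e1 := by
    rw [S.vec_conj hcz hx, S.act'_def hcz, hcA, hAv, sm_one]
  have h1 : IsConj x (c * x * c⁻¹) := isConj_iff.2 ⟨c, rfl⟩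
  obtain ⟨s, hs⟩ := S.eq_zp hm hv'
  refine h1.trans (IsConj.trans ?_ S.conj_z')
  rw [hs]
  rcases z2 s with rfl | rfl
  · rw [zp_zero, one_mul, zp_one]
  · rw [zp_one, zp_one]
    obtain ⟨q, -, hq⟩ := S.P.p.exists_swap
    exact (isConj_iff.2 ⟨q, hq⟩).symm

/-- Involutions of `Q'` are conjugate to `z`. -/
theorem conj_of_mem' {x : G} (hx : x ∈ Q') (hxx : x * x = 1) (hx1 : x ≠ 1) : IsConj x z := by
  obtain ⟨g, hg⟩ := S.P.p.ex
  have h1 : g⁻¹ * x * g ∈ Q := (S.P.p.link g hg x).1 hx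
  refine IsConj.trans (b := g⁻¹ * x * g) (isConj_iff.2 ⟨g⁻¹, by group⟩) (S.conj_of_mem h1 ?_ ?_)
  · calc g⁻¹ * x * g * (g⁻¹ * x * g) = g⁻¹ * (x * x) * g := by group
      _ = 1 := by rw [hxx]; group
  · intro e
    apply hx1
    calc x = g * (g⁻¹ * x * g) * g⁻¹ := by group
      _ = 1 := by rw [e]; group

/-- The square of `k * m`. -/
theorem km_sq {k m : G} (hk : k ∈ Q) (hk0 : y1 (S.F.vec k) = 0) (hm : m ∈ Q') (hmz : m * z = z * m) :
    k * m * (k * m) = zp z (qf (pw (S.F.vec k)) + bf (wof (S.act' m)) (pw (S.F.vec k))) *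
      zp a (bf (wof (S.act' m)) (pw (S.F.vec k)) + qf (wof (S.act' m))) := by
  have hB : bf (wof (S.act' m)) (pw (S.F.vec k)) = bf (wof (S.act' m)) (S.F.vec k) := by
    rw [bf_comm, bf_pw hk0 (inW_wof _), bf_comm]
  have hka := (S.comm_a_iff hk).2 hk0
  rw [hB, qf_pw hk0]
  set B := bf (wof (S.act' m)) (S.F.vec k) with hBd
  have hc : Commute (zp a B) (zp z (qf (S.F.vec k))) :=
    ((show Commute a z from S.P.p.az).pow_left _).pow_right _
  calc k * m * (k * m) = k * (m * k) * m := by group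
    _ = k * (zp z B * zp a B) * (k * m) * m := by rw [S.m_comm hm hmz hk hk0, ← hBd]; group
    _ = zp z B * zp a B * (k * k) * (m * m) := by rw [four_comm (S.qz hk) hka]; group
    _ = zp z B * zp a B * zp z (qf (S.F.vec k)) * zp a (qf (wof (S.act' m))) := by
        rw [S.F.sq hk, S.m_sq hm hmz]
    _ = _ := by
        rw [mul_assoc (zp z B), hc.eq, ← mul_assoc, ← zp_add S.h.zz, mul_assoc, ← zp_add S.h'.zz,
          add_comm B (qf _)]

theorem zp_pair_one {s t : ZMod 2} (e : zp z s * zp a t = 1) : s = 0 ∧ t = 0 := by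
  rcases z2 s with rfl | rfl <;> rcases z2 t with rfl | rfl <;> simp only [zp_zero, zp_one, one_mul, mul_one] at e
  · exact ⟨rfl, rfl⟩
  · exact absurd e S.h'.ne_one
  · exact absurd e S.h.ne_one
  · exact absurd e S.P.p.za_ne_one

theorem km_conditions {k m : G} (hk : k ∈ Q) (hk0 : y1 (S.F.vec k) = 0) (hm : m ∈ Q') (hmz : m * z = z * m)
    (h1 : k * m * (k * m) = 1) :
    qf (pw (S.F.vec k)) = bf (wof (S.act' m)) (pw (S.F.vec k)) ∧
      qf (wof (S.act' m)) = bf (wof (S.act' m)) (pw (S.F.vec k)) := by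
  rw [S.km_sq hk hk0 hm hmz] at h1
  obtain ⟨e1, e2⟩ := S.zp_pair_one h1
  have h2 : ∀ x y : ZMod 2, x + y = 0 → x = y := by decide
  exact ⟨h2 _ _ e1, (h2 _ _ e2).symm⟩

/-- The shape of the involutions of `C(z)` outside `Q`. -/
theorem shape {x : G} (hxz : x * z = z * x) (hxQ : x ∉ Q) (hxx : x * x = 1) :
    ∃ c k m : G, c * z = z * c ∧ k ∈ Q ∧ y1 (S.F.vec k) = 0 ∧ m ∈ Q' ∧ m * z = z * m ∧
      wof (S.act' m) ≠ 0 ∧ c * x * c⁻¹ = k * m ∧ k * m * (k * m) = 1 := by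
  have hX : S.act' x ≠ 1 := fun e => hxQ ((S.act'_one_iff hxz).1 e)
  have hXX : S.act' x * S.act' x = 1 := by rw [← S.act'_mul hxz hxz, hxx, S.act'_q Q.one_mem]
  obtain ⟨A, hA, hR⟩ := exists_conj_inRad (S.act'_omega x) hXX hX
  obtain ⟨⟨c, hc⟩, hcA⟩ := S.F.lift A hA
  have hcz := mem_centralizer_singleton_iff.1 hc
  have hA' : S.act' c = A := by rw [S.act'_def hcz]; exact hcA
  have hxc : S.act' (c * x * c⁻¹) = A * S.act' x * A⁻¹ := by
    rw [S.act'_mul (mul_z hcz hxz) (inv_z hcz), S.act'_mul hcz hxz, S.act'_inv hcz, hA']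
  obtain ⟨m, hm, hmz, hmA⟩ := S.exists_m_of_inRad hR
  have hx'z : c * x * c⁻¹ * z = z * (c * x * c⁻¹) := mul_z (mul_z hcz hxz) (inv_z hcz)
  set k := c * x * c⁻¹ * m⁻¹ with hk
  have hkQ : k ∈ Q := (S.act'_one_iff (mul_z hx'z (inv_z hmz))).1 (by
    rw [S.act'_mul hx'z (inv_z hmz), S.act'_inv hmz, hmA, hxc, mul_inv_cancel])
  have hkm : c * x * c⁻¹ = k * m := by rw [hk, inv_mul_cancel_right]
  have hsq : k * m * (k * m) = 1 := by
    rw [← hkm]
    calc c * x * c⁻¹ * (c * x * c⁻¹) = c * (x * x) * c⁻¹ := by group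
      _ = 1 := by rw [hxx]; group
  have hw : wof (S.act' m) ≠ 0 := fun e => hX (by
    have h1 := (S.inRad hm hmz).eq_one e
    rw [hmA, mul_inv_eq_one] at h1
    exact mul_left_cancel (h1.trans (mul_one A).symm))
  refine ⟨c, k, m, hcz, hkQ, ?_, hm, hmz, hw, hkm, hsq⟩
  have hm2 : S.F.vec (m * m) = sm (qf (wof (S.act' m))) e1 := by rw [S.m_sq hm hmz, S.vec_zpa]
  have hmmQ : m * m ∈ Q := by rw [S.m_sq hm hmz]; exact S.zpa_mem _
  have h2 : k * (m * k * m⁻¹) * (m * m) = 1 := by rw [← hsq]; group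
  have h3 := congrArg S.F.vec h2
  rw [S.F.vec_mul (Q.mul_mem hkQ (S.h.conj_mem hmz hkQ)) hmmQ, S.F.vec_mul hkQ (S.h.conj_mem hmz hkQ),
    S.vec_conj hmz hkQ, hm2, S.F.vec_one, (S.inRad hm hmz).act_eq] at h3
  have h4 := eq_of_add _ _ h3
  rw [add_comm] at h4
  rw [← bf_e1]
  refine move_T _ _ (inW_wof _) hw ?_
  rw [h4]
  rcases z2 (qf (wof (S.act' m))) with e | e <;> rw [e]
  · exact Or.inl (sm_zero _)
  · exact Or.inr (sm_one _)

/-- The pairs of type zero give conjugates of `z`. -/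
theorem conj_type_zero {k m : G} (hk : k ∈ Q) (hk0 : y1 (S.F.vec k) = 0) (hm : m ∈ Q')
    (hmz : m * z = z * m) (hw : wof (S.act' m) ≠ 0) (hsq : k * m * (k * m) = 1)
    (hB : bf (wof (S.act' m)) (pw (S.F.vec k)) = 0) : IsConj (k * m) z := by
  obtain ⟨hqk, hqw⟩ := S.km_conditions hk hk0 hm hmz hsq
  rw [hB] at hqk hqw
  have hne : k * m ≠ 1 := fun e => hw (by
    have h1 := congrArg S.act' e
    rw [S.act'_mul (S.qz hk) hmz, S.act'_q hk, one_mul, S.act'_q Q.one_mem] at h1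
    rw [h1, wof, act_one, pw_f1])
  have hQ' : ∀ {y : G}, y ∈ Q → pw (S.F.vec y) = 0 → y1 (S.F.vec y) = 0 → y ∈ Q' := by
    intro y hy hp h0
    obtain ⟨t, ht⟩ := sm_cases (pw_cases h0 hp)
    obtain ⟨s, rfl⟩ := S.eq_zp hy ht
    exact S.four_mem' s t
  rcases pair_zero _ _ (pw_mem _) (inW_wof _) hqk hqw hB hw with e | e
  · exact S.conj_of_mem' (Q'.mul_mem (hQ' hk e hk0) hm) hsq hne
  · obtain ⟨q, hq, hqv⟩ := S.exists_q
    set y := q⁻¹ * (k * m) * q with hy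
    have h1 : m * q * m⁻¹ ∈ Q := S.h.conj_mem hmz hq
    have hym : y * m⁻¹ = q⁻¹ * k * (m * q * m⁻¹) := by rw [hy]; group
    have hv : S.F.vec (q⁻¹ * k * (m * q * m⁻¹)) = f1 + S.F.vec k + T (wof (S.act' m)) f1 := by
      rw [S.F.vec_mul (Q.mul_mem (Q.inv_mem hq) hk) h1, S.F.vec_mul (Q.inv_mem hq) hk, S.vec_inv hq,
        S.vec_conj hmz hq, hqv, (S.inRad hm hmz).act_eq]
    have hT : T (wof (S.act' m)) f1 = sm (qf (wof (S.act' m))) e1 + wof (S.act' m) + f1 := by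
      rw [← T_f1 (inW_wof _), add_assoc, add_self_V, add_zero]
    have hv2 : S.F.vec (q⁻¹ * k * (m * q * m⁻¹)) = S.F.vec k + wof (S.act' m) := by
      rw [hv, hT, hqw, sm_zero, zero_add, add_comm f1, add_assoc, add_comm (wof _) f1, ← add_assoc f1,
        add_self_V, zero_add]
    have hyQ' : y ∈ Q' := by
      have h2 : y * m⁻¹ ∈ Q' := by
        rw [hym]
        refine hQ' (Q.mul_mem (Q.mul_mem (Q.inv_mem hq) hk) h1) ?_ ?_
        · rw [hv2, pw_add, e, pw_eq (inW_wof _), add_self_V]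
        · rw [hv2, y1_add, hk0, (inW_wof _).2, add_zero]
      simpa using Q'.mul_mem h2 hm
    have hy2 : y * y = 1 := by
      calc y * y = q⁻¹ * (k * m * (k * m)) * q := by rw [hy]; group
        _ = 1 := by rw [hsq]; group
    have hy1 : y ≠ 1 := fun e1 => hne (by
      calc k * m = q * y * q⁻¹ := by rw [hy]; group
        _ = 1 := by rw [e1]; group)
    exact IsConj.trans (b := y) (isConj_iff.2 ⟨q⁻¹, by rw [hy]; group⟩) (S.conj_of_mem' hyQ' hy2 hy1)

/-- The pairs of type one are conjugate. -/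
theorem conj_type_one {k m k' m' : G} (hk : k ∈ Q) (hkv : S.F.vec k = k0) (hm : m ∈ Q')
    (hmz : m * z = z * m) (hmw : wof (S.act' m) = w0) (hk' : k' ∈ Q) (hk'0 : y1 (S.F.vec k') = 0)
    (hm' : m' ∈ Q') (hm'z : m' * z = z * m') (hsq : k' * m' * (k' * m') = 1)
    (hB : bf (wof (S.act' m')) (pw (S.F.vec k')) = 1) : IsConj (k * m) (k' * m') := by
  obtain ⟨hqk, hqw⟩ := S.km_conditions hk' hk'0 hm' hm'z hsq
  rw [hB] at hqk hqw
  set κ := pw (S.F.vec k') with hκ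
  set w := wof (S.act' m') with hwd
  obtain ⟨r, hr, hrW, s, hs, hsW, hrs⟩ := trans_w w (inW_wof _) hqw
  set A1 := rfl' r * rfl' s with hA1
  have hfix : ∀ {x : V}, InW x → R x e1 = e1 ∧ R x f1 = f1 := fun {x} hx => by
    constructor
    · rw [R, bf_e1, hx.2, sm_zero, add_zero]
    · rw [R, bf_f1, hx.1, sm_zero, add_zero]
  have hA1f : ∀ v, act A1 v = R r (R s v) := fun v => by rw [hA1, act_mul, act_rfl' hs, act_rfl' hr]
  have hA1e : act A1 e1 = e1 ∧ act A1 f1 = f1 := by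
    rw [hA1f, hA1f]
    exact ⟨by rw [(hfix hsW).1, (hfix hrW).1], by rw [(hfix hsW).2, (hfix hrW).2]⟩
  have hinv : ∀ {x}, act A1 x = x → act A1⁻¹ x = x := fun {x} h => by
    conv_lhs => rw [← h]
    exact act_inv_self _ _
  set κ1 := act A1⁻¹ κ with hκ1
  have hκ1W : InW κ1 := by
    constructor
    · rw [← bf_f1, ← hinv hA1e.2, hκ1, act_bf, bf_f1]; exact (pw_mem _).1
    · rw [← bf_e1, ← hinv hA1e.1, hκ1, act_bf, bf_e1]; exact (pw_mem _).2
  have hw1 : act A1⁻¹ w = w0 := by rw [← hrs, ← hA1f, act_inv_self]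
  have hκw : bf w0 κ1 = 1 := by rw [← hw1, hκ1, act_bf, hB]
  obtain ⟨r', hr', hrW', hrw, s', hs', hsW', hsw, hrs'⟩ :=
    trans_k κ1 hκ1W (by rw [hκ1, act_qf, hqk]) hκw
  set A := A1 * (rfl' r' * rfl' s') with hA
  have hAf : ∀ v, act A v = act A1 (R r' (R s' v)) := fun v => by
    rw [hA, act_mul, act_mul (rfl' r'), act_rfl' hs', act_rfl' hr']
  have hAe : act A e1 = e1 := by rw [hAf, (hfix hsW').1, (hfix hrW').1, hA1e.1]
  have hAff : act A f1 = f1 := by rw [hAf, (hfix hsW').2, (hfix hrW').2, hA1e.2]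
  have hAw : act A w0 = w := by
    rw [hAf, show R s' w0 = w0 by rw [R, hsw, sm_zero, add_zero],
      show R r' w0 = w0 by rw [R, hrw, sm_zero, add_zero], hA1f, hrs]
  have hAk : act A k0 = κ := by
    rw [hAf, hrs', hκ1, ← act_mul, mul_inv_cancel, act_one]
  obtain ⟨c, hcz, hca, hcA⟩ := S.exists_fix (mul_mem (pair_mem hr hs) (pair_mem hr' hs')) hAe
  have hk1Q : c * k * c⁻¹ ∈ Q := S.h.conj_mem hcz hk
  have hk1v : S.F.vec (c * k * c⁻¹) = κ := by rw [S.vec_conj hcz hk, hcA, hkv, hAk]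
  have hm1 : c * m * c⁻¹ ∈ Q' := S.h'.conj_mem hca hm
  have hm1z : c * m * c⁻¹ * z = z * (c * m * c⁻¹) := mul_z (mul_z hcz hmz) (inv_z hcz)
  have hm1w : wof (S.act' (c * m * c⁻¹)) = w := by
    have hAif : act A⁻¹ f1 = f1 := by conv_lhs => rw [← hAff]; exact act_inv_self _ _
    rw [S.act'_mul (mul_z hcz hmz) (inv_z hcz), S.act'_mul hcz hmz, S.act'_inv hcz, hcA, wof,
      act_mul, act_mul, hAif, (S.inRad hm hmz).act_eq, hmw, T_w0.2, act_add, act_add, hAff, hAe,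
      hAw, pw_add, pw_add, pw_f1, pw_e1, zero_add, zero_add, pw_eq (inW_wof _)]
  refine IsConj.trans (b := c * k * c⁻¹ * (c * m * c⁻¹)) (isConj_iff.2 ⟨c, by group⟩) ?_
  generalize c * k * c⁻¹ = k1 at hk1Q hk1v
  generalize c * m * c⁻¹ = m1 at hm1 hm1z hm1w
  -- differences
  have hk10 : y1 (S.F.vec k1) = 0 := by rw [hk1v]; exact (pw_mem _).2
  obtain ⟨t1, ht1⟩ : ∃ t, S.F.vec (k' * k1⁻¹) = sm t e1 := by
    refine sm_cases (pw_cases ?_ ?_) <;> rw [S.F.vec_mul hk' (Q.inv_mem hk1Q), S.vec_inv hk1Q]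
    · rw [y1_add, hk'0, hk10, add_zero]
    · rw [pw_add, hk1v, hκ, pw_eq (pw_mem _), add_self_V]
  obtain ⟨s1, hs1⟩ := S.eq_zp (Q.mul_mem hk' (Q.inv_mem hk1Q)) ht1
  obtain ⟨s2, t2, hs2⟩ := S.same_act hm' hm'z hm1 hm1z ((S.inRad hm' hm'z).ext' (S.inRad hm1 hm1z) hm1w.symm)
  obtain ⟨u, hu, huk, huw⟩ := separate κ w (pw_mem _) (inW_wof _) hB (s1 + s2 + (t1 + t2)) (t1 + t2)
  obtain ⟨j, hj, hjv⟩ := S.F.surj u
  have hj0 : y1 (S.F.vec j) = 0 := by rw [hjv]; exact hu.2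
  have hja := (S.comm_a_iff hj).2 hj0
  have hk1a := (S.comm_a_iff hk1Q).2 hk10
  have e1 : j * k1 * j⁻¹ = zp z (s1 + s2 + (t1 + t2)) * k1 := by
    rw [S.F.comm hj hk1Q, hjv, hk1v, huk]; group
  have e2 : j * m1 * j⁻¹ = zp z (t1 + t2) * zp a (t1 + t2) * m1 := by
    have h0 := S.m_comm hm1 hm1z hj hj0
    rw [hjv, hm1w, bf_comm, huw] at h0
    have h2 : j * m1 = zp z (t1 + t2) * zp a (t1 + t2) * (m1 * j) := by
      rw [h0, ← mul_assoc _ _ (j * m1), S.four_sq, one_mul]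
    rw [h2]; group
  refine isConj_iff.2 ⟨j, ?_⟩
  have hk'e : k' = zp z s1 * zp a t1 * k1 := by rw [← hs1, inv_mul_cancel_right]
  calc j * (k1 * m1) * j⁻¹ = (j * k1 * j⁻¹) * (j * m1 * j⁻¹) := by group
    _ = zp z (s1 + s2 + (t1 + t2)) * (k1 * (zp z (t1 + t2) * zp a (t1 + t2))) * m1 := by rw [e1, e2]; group
    _ = zp z (s1 + s2 + (t1 + t2)) * (zp z (t1 + t2) * zp a (t1 + t2) * k1) * m1 := by
        rw [four_comm (S.qz hk1Q) hk1a]
    _ = (zp z (s1 + s2 + (t1 + t2) + (t1 + t2)) * zp a (t1 + t2)) * k1 * m1 := by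
        rw [zp_add S.h.zz (s1 + s2 + (t1 + t2))]; group
    _ = (zp z s1 * zp a t1 * (zp z s2 * zp a t2)) * k1 * m1 := by
        rw [add_assoc (s1 + s2), CharTwo.add_self_eq_zero, add_zero, zp_add S.h.zz, zp_add S.h'.zz,
          Commute.mul_mul_mul_comm]
        exact ((show Commute z a from S.P.p.az.symm).pow_left _).pow_right _
    _ = zp z s1 * zp a t1 * (k1 * (zp z s2 * zp a t2)) * m1 := by
        rw [four_comm (S.qz hk1Q) hk1a]; group
    _ = k' * m' := by rw [hk'e, hs2]; group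

/-- The involution of the second class. -/
theorem exists_second : ∃ k m : G, k ∈ Q ∧ S.F.vec k = k0 ∧ m ∈ Q' ∧ m * z = z * m ∧
    wof (S.act' m) = w0 ∧ k * m * (k * m) = 1 := by
  obtain ⟨k, hk, hkv⟩ := S.F.surj k0
  obtain ⟨m, hm, hmz, -, hmw⟩ := S.exists_m inW_w0
  refine ⟨k, m, hk, hkv, hm, hmz, hmw, ?_⟩
  rw [S.km_sq hk (by rw [hkv]; rfl) hm hmz, hkv, hmw, pw_eq inW_k0, basis_k.1, basis_k.2.1,
    basis_k.2.2, CharTwo.add_self_eq_zero, zp_zero, zp_zero, mul_one]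

/-- The involutions of `C(z)`. -/
theorem conj_cases {k m : G} (hk : k ∈ Q) (hkv : S.F.vec k = k0) (hm : m ∈ Q') (hmz : m * z = z * m)
    (hmw : wof (S.act' m) = w0) {x : G} (hxz : x * z = z * x) (hxx : x * x = 1) (hx1 : x ≠ 1) :
    IsConj x z ∨ IsConj x (k * m) := by
  by_cases hxQ : x ∈ Q
  · exact Or.inl (S.conj_of_mem hxQ hxx hx1)
  obtain ⟨c, k', m', -, hk', hk'0, hm', hm'z, hw, e, hsq⟩ := S.shape hxz hxQ hxx
  have h1 : IsConj x (k' * m') := isConj_iff.2 ⟨c, e⟩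
  rcases z2 (bf (wof (S.act' m')) (pw (S.F.vec k'))) with hB | hB
  · exact Or.inl (h1.trans (S.conj_type_zero hk' hk'0 hm' hm'z hw hsq hB))
  · exact Or.inr (h1.trans (S.conj_type_one hk hkv hm hmz hmw hk' hk'0 hm' hm'z hsq hB).symm)

/-- The second class is not the class of `z`. -/
theorem not_conj {k m : G} (hk : k ∈ Q) (hkv : S.F.vec k = k0) (hm : m ∈ Q') (hmz : m * z = z * m)
    (hmw : wof (S.act' m) = w0) (hw32 : 32 ≤ Nat.card ↥Q) : ¬ IsConj z (k * m) := by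
  intro hc
  obtain ⟨h, hh⟩ := isConj_iff.1 hc
  set x := k * m with hx
  have hk0' : y1 (S.F.vec k) = 0 := by rw [hkv]; rfl
  have hxz : x * z = z * x := mul_z (S.qz hk) hmz
  have hxact : S.act' x = S.act' m := by rw [hx, S.act'_mul (S.qz hk) hmz, S.act'_q hk, one_mul]
  have hxT : ∀ v, act (S.act' x) v = T w0 v := fun v => by rw [hxact, (S.inRad hm hmz).act_eq, hmw]
  have hxQ : x ∉ Q := fun e => by
    have h1 : wof (S.act' m) = wof 1 := congrArg wof (hxact.symm.trans (S.act'_q e))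
    rw [hmw, wof, act_one, pw_f1] at h1
    exact absurd h1 (by decide)
  -- the group at `x`
  set Qx := Q.map (MulAut.conj h).toMonoidHom with hQx
  have hmemx : ∀ y, y ∈ Qx ↔ h⁻¹ * y * h ∈ Q := fun y => by
    rw [hQx, mem_map_equiv, MulAut.conj_symm_apply]
  have hCx : Ctr Qx x := hh ▸ S.h.of_conj h hmemx
  have hcardx : 32 ≤ Nat.card ↥Qx := by
    rwa [hQx, card_map_of_injective (MulAut.conj h).injective]
  have hzx : z ∉ Qx := by
    intro hz
    have e1 : h⁻¹ * x * h⁻¹⁻¹ = z := by rw [← hh]; group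
    have hne : z ≠ x := fun e => hxQ (e ▸ S.h.z_mem)
    have P' := Pair.mk' hCx (g := h⁻¹) (by rw [e1]; exact hz) (by rw [e1]; exact hne)
    have h2 := P'.z_mem' hcardx
    rw [mem_map_equiv, MulAut.conj_symm_apply, inv_inv, hmemx] at h2
    apply hxQ
    simpa [mul_assoc] using h2
  set y := h⁻¹ * z * h with hy
  have hyz : y * z = z * y := by
    have e : z = h⁻¹ * x * h := by rw [← hh]; group
    calc y * z = h⁻¹ * (z * x) * h := by rw [hy, show h⁻¹ * z * h * z = h⁻¹ * z * h * (h⁻¹ * x * h) by rw [← e]]; group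
      _ = (h⁻¹ * x * h) * y := by rw [← hxz, hy]; group
      _ = z * y := by rw [← e]
  have hyQ : y ∉ Q := fun e => hzx ((hmemx z).2 e)
  have hyy : y * y = 1 := by
    calc y * y = h⁻¹ * (z * z) * h := by rw [hy]; group
      _ = 1 := by rw [S.h.zz]; group
  obtain ⟨c, k', m', hcz, hk', hk'0, hm', hm'z, hw, hcy, hsq⟩ := S.shape hyz hyQ hyy
  obtain ⟨hqk, hqw⟩ := S.km_conditions hk' hk'0 hm' hm'z hsq
  obtain ⟨u, hu, huk, huw, u', hu', hu'k, hu'w, huu⟩ :=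
    orth_pair _ _ (pw_mem _) (inW_wof _) hw hqk hqw
  -- elements of `Q_x` centralizing `z`
  have mk : ∀ {v : V}, InW v → bf v (pw (S.F.vec k')) = 0 → bf v (wof (S.act' m')) = 0 →
      ∃ j n, j ∈ Q ∧ S.F.vec j = v ∧ n = h * (c⁻¹ * j * c) * h⁻¹ ∧ n ∈ Qx ∧ n * z = z * n := by
    intro v hv h1 h2
    obtain ⟨j, hj, hjv⟩ := S.F.surj v
    have hj0 : y1 (S.F.vec j) = 0 := by rw [hjv]; exact hv.2
    have c1 : j * k' = k' * j := (S.comm_iff hj hk').2 (by
      rw [hjv, bf_comm, ← bf_pw hk'0 hv, bf_comm]; exact h1)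
    have c2 : m' * j = j * m' := by
      have := S.m_comm hm' hm'z hj hj0
      rwa [hjv, bf_comm, h2, zp_zero, zp_zero, mul_one, one_mul] at this
    have hj' : c⁻¹ * j * c ∈ Q := by simpa using S.h.conj_mem (inv_z hcz) hj
    have c3 : (c⁻¹ * j * c) * y = y * (c⁻¹ * j * c) := by
      calc (c⁻¹ * j * c) * y = c⁻¹ * (j * (c * y * c⁻¹)) * c := by group
        _ = c⁻¹ * ((c * y * c⁻¹) * j) * c := by
            rw [hcy, ← mul_assoc j, c1, mul_assoc k', ← c2, ← mul_assoc k']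
        _ = _ := by group
    refine ⟨j, _, hj, hjv, rfl, (hmemx _).2 (by simpa [mul_assoc] using hj'), ?_⟩
    calc h * (c⁻¹ * j * c) * h⁻¹ * z = h * ((c⁻¹ * j * c) * y) * h⁻¹ := by rw [hy]; group
      _ = _ := by rw [c3, hy]; group
  obtain ⟨j, n, hj, hjv, hn, hnQ, hnz⟩ := mk hu huk huw
  obtain ⟨j', n', hj', hj'v, hn', hn'Q, hn'z⟩ := mk hu' hu'k hu'w
  have hnn : n * n' = x * (n' * n) := by
    have e0 := S.F.comm hj hj'
    rw [hjv, hj'v, huu, zp_one] at e0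
    calc n * n' = h * (c⁻¹ * (j * j') * c) * h⁻¹ := by rw [hn, hn']; group
      _ = h * ((c⁻¹ * z * c) * (c⁻¹ * (j' * j) * c)) * h⁻¹ := by rw [e0]; group
      _ = h * (z * (c⁻¹ * (j' * j) * c)) * h⁻¹ := by rw [show c⁻¹ * z * c = z by rw [mul_assoc, ← hcz, inv_mul_cancel_left]]
      _ = _ := by rw [← hh, hn, hn']; group
  -- one of them is outside the transvection group
  have hout : ∃ n, n ∈ Qx ∧ n * z = z * n ∧ ¬ InRad (S.act' n) := by
    by_contra hcon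
    push Not at hcon
    obtain ⟨p, hp, hpz, hpA⟩ := S.exists_m_of_inRad (hcon n hnQ hnz)
    obtain ⟨p', hp', hp'z, hp'A⟩ := S.exists_m_of_inRad (hcon n' hn'Q hn'z)
    have hcm : S.act' p * S.act' p' = S.act' p' * S.act' p := by
      rcases S.h'.comm_cases hp hp' with e | e
      · rw [← S.act'_mul hpz hp'z, commutatorElement_eq_one_iff_mul_comm.1 e, S.act'_mul hp'z hpz]
      · rw [commutatorElement_def, mul_inv_eq_iff_eq_mul, mul_inv_eq_iff_eq_mul] at e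
        rw [← S.act'_mul hpz hp'z, e, mul_assoc, S.act'_mul S.P.p.az (mul_z hp'z hpz),
          S.act'_q S.mem_a, one_mul, S.act'_mul hp'z hpz]
    have h1 := congrArg S.act' hnn
    rw [S.act'_mul hnz hn'z, S.act'_mul hxz (mul_z hn'z hnz), S.act'_mul hn'z hnz, ← hpA, ← hp'A,
      hcm, right_eq_mul] at h1
    exact hxQ ((S.act'_one_iff hxz).1 h1)
  obtain ⟨n, hnQ, hnz, hnR⟩ := hout
  set A := S.act' n with hA
  have hnx : n * x = x * n := hCx.comm hnQ
  have hAX : ∀ v, act A (T w0 v) = T w0 (act A v) := fun v => by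
    rw [← hxT, ← hxT, ← act_mul, ← act_mul, hA, ← S.act'_mul hnz hxz, hnx, S.act'_mul hxz hnz]
  have hAe : act A e1 = e1 := by
    have h1 : act A e1 = T w0 (act A k0) + act A k0 := by
      rw [← hAX, ← act_add, T_w0.1]
    rcases image_T (act A k0) (by rw [← h1, act_qf]; decide) with e | e <;> rw [← h1] at e
    · have := congrArg (act A⁻¹) e
      rw [act_inv_self, act_zero] at this
      exact absurd this (by decide)
    · exact e
  have hy1A : ∀ v, y1 (act A v) = y1 v := fun v => by rw [← bf_e1, ← bf_e1 v]; conv_lhs => rw [← hAe, act_bf]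
  obtain ⟨b, hAw⟩ : ∃ b, act A w0 = sm b e1 + w0 := by
    refine ⟨bf w0 (act A f1), ?_⟩
    have h1 := hAX f1
    rw [T_w0.2, act_add, act_add, hAe, T] at h1
    rw [hy1A, y1_f1, sm_one, basis_k.2.1, sm_one] at h1
    have h2 : act A f1 + (e1 + act A w0) = act A f1 + (e1 + (sm (bf w0 (act A f1)) e1 + w0)) := by
      rw [← add_assoc, h1]; abel
    exact add_left_cancel (add_left_cancel h2)
  have hAwp : pw (act A w0) = w0 := by
    rw [hAw, pw_add, pw_sm, pw_e1, pw_eq inW_w0, sm_eq, smul_zero, zero_add]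
  have hbw : ∀ v, y1 v = 0 → bf (pw (act A v)) w0 = bf v w0 := fun v hv => by
    rw [← bf_pw (v := v) hv inW_w0, bf_pw hv inW_w0]
    have hz0 : y1 (act A v) = 0 := by rw [hy1A, hv]
    rw [bf_pw hz0 inW_w0, ← act_bf A v w0, hAw, bf_add_right, sm_eq]
    have : bf (act A v) (b • e1) = 0 := by
      rcases z2 b with rfl | rfl
      · rw [zero_smul, bf_zero_right]
      · rw [one_smul, bf_e1, hz0]
    rw [this, zero_add]
  -- the image of `k0`
  obtain ⟨ε, hAk⟩ : ∃ ε, pw (act A k0) = k0 + sm ε w0 := by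
    obtain ⟨q, hq, hc'⟩ : ∃ q ∈ Q, q * n * a * (q * n)⁻¹ = a := by
      have hm1 : n * a * n⁻¹ ∈ Q := S.h.conj_mem hnz S.mem_a
      obtain ⟨s, hs⟩ := S.eq_zp (t := 1) hm1 (by
        rw [S.vec_conj hnz S.mem_a, ← hA, S.F.vec_a, hAe, sm_one])
      rcases z2 s with rfl | rfl
      · exact ⟨1, Q.one_mem, by rw [zp_zero, one_mul, zp_one] at hs; rw [one_mul, hs]⟩
      · obtain ⟨q, hq, hqa⟩ := S.P.p.exists_swap
        refine ⟨q, hq, ?_⟩
        rw [zp_one, zp_one] at hs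
        calc q * n * a * (q * n)⁻¹ = q * (n * a * n⁻¹) * q⁻¹ := by group
          _ = (q * z * q⁻¹) * (q * a * q⁻¹) := by rw [hs]; group
          _ = a := by rw [S.h.conj_z hq, hqa, S.P.p.z_za]
    have hca : q * n * a = a * (q * n) := mul_inv_eq_iff_eq_mul.1 hc'
    have hcz : q * n * z = z * (q * n) := mul_z (S.qz hq) hnz
    have hcA : S.act' (q * n) = A := by rw [S.act'_mul (S.qz hq) hnz, S.act'_q hq, one_mul]
    set c := q * n with hcdef
    have hc1 : c * x * c⁻¹ = q * x * q⁻¹ := by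
      rw [hcdef, show q * n * x * (q * n)⁻¹ = q * (n * x * n⁻¹) * q⁻¹ by group, hnx, mul_inv_cancel_right]
    have hm1 : c * m * c⁻¹ ∈ Q' := S.h'.conj_mem hca hm
    have hm1z : c * m * c⁻¹ * z = z * (c * m * c⁻¹) := mul_z (mul_z hcz hmz) (inv_z hcz)
    have hsame : S.act' (c * m * c⁻¹) = S.act' m := by
      rw [S.act'_mul (mul_z hcz hmz) (inv_z hcz), S.act'_mul hcz hmz, S.act'_inv hcz, hcA,
        mul_inv_eq_iff_eq_mul, ← hxact, hA, ← S.act'_mul hnz hxz, hnx, S.act'_mul hxz hnz]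
    obtain ⟨s, t, hst⟩ := S.same_act hm1 hm1z hm hmz hsame
    have hxqQ : x * q⁻¹ * x⁻¹ ∈ Q := S.h.conj_mem hxz (Q.inv_mem hq)
    have h4Q : zp z s * zp a t ∈ Q := Q.mul_mem (S.zp_mem _) (S.zpa_mem _)
    have hk1 : c * k * c⁻¹ ∈ Q := S.h.conj_mem hcz hk
    have he : c * k * c⁻¹ * (zp z s * zp a t) * k⁻¹ = q * (x * q⁻¹ * x⁻¹) := by
      have h1 : c * k * c⁻¹ * (zp z s * zp a t) * k⁻¹ = c * x * c⁻¹ * x⁻¹ := by
        rw [hx, show zp z s * zp a t = c * m * c⁻¹ * m⁻¹ by rw [hst, mul_inv_cancel_right]]; group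
      rw [h1, hc1]; group
    have h5 := congrArg (fun w => pw (S.F.vec w)) he
    simp only [S.F.vec_mul (Q.mul_mem hk1 h4Q) (Q.inv_mem hk), S.F.vec_mul hk1 h4Q, S.vec_inv hk,
      S.vec_conj hcz hk, hcA, hkv, S.F.vec_mul (S.zp_mem _) (S.zpa_mem _), S.vec_zp, S.vec_zpa,
      S.F.vec_mul hq hxqQ, S.vec_conj hxz (Q.inv_mem hq), S.vec_inv hq, hxT, pw_add, pw_sm, pw_e1,
      pw_eq inW_k0] at h5
    rw [sm_eq t, smul_zero, pw_zero, add_zero, add_zero, add_comm (pw (S.F.vec q)), ← pw_add, pw_T_w0] at h5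
    refine ⟨y1 (S.F.vec q), ?_⟩
    rw [← h5, ← add_assoc, add_comm k0, add_assoc, add_self_V, add_zero]
  have hbk : ∀ v, y1 v = 0 → bf v w0 = 0 → bf v k0 = 0 → bf (pw (act A v)) k0 = 0 := fun v hv h1 h2 => by
    have hz0 : y1 (act A v) = 0 := by rw [hy1A, hv]
    have h3 : bf (pw (act A v)) (pw (act A k0)) = 0 := by
      rw [bf_pw_pw hz0 (by rw [hy1A]; rfl), act_bf, h2]
    rw [hAk, bf_add_right] at h3
    have h4 : bf (pw (act A v)) (sm ε w0) = 0 := by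
      rcases z2 ε with rfl | rfl
      · rw [sm_zero, bf_zero_right]
      · rw [sm_one, hbw v hv, h1]
    rwa [h4, add_zero] at h3
  have him : ∀ v, InW v → v ≠ 0 → qf v = 0 → bf v k0 = 0 → bf v w0 = 0 →
      pw (act A v) = h1 ∨ pw (act A v) = h2 := fun v hv hv0 hq hk' hw' => by
    have hz0 : y1 (act A v) = 0 := by rw [hy1A, hv.2]
    refine sing_h _ (pw_mem _) (by rw [qf_pw hz0, act_qf, hq]) (hbk v hv.2 hw' hk')
      (by rw [hbw v hv.2, hw']) fun e => hv0 ?_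
    refine hv.zero_left ?_
    rcases pw_cases hz0 e with e' | e' <;> have e'' := congrArg (act A⁻¹) e' <;> rw [act_inv_self] at e''
    · exact Or.inl (e''.trans (act_zero _))
    · refine Or.inr (e''.trans ?_)
      conv_lhs => rw [← hAe]
      exact act_inv_self _ _
  obtain ⟨hW1, hn1, hW2, hn2, hh11⟩ := h1_out
  obtain ⟨q1, q2, b12, b1k, b1w, b2k, b2w, q12⟩ := basis_h
  rcases him h1 hW1 hn1 q1 b1k b1w with e1' | e1'
  · -- the hyperbolic line is fixed
    have e2' : pw (act A h2) = h2 := by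
      refine (him h2 hW2 hn2 q2 b2k b2w).resolve_left fun e => ?_
      have := bf_pw_pw (v := act A h1) (w := act A h2) (by rw [hy1A]; exact hW1.2) (by rw [hy1A]; exact hW2.2)
      rw [e1', e, act_bf, b12, hh11] at this
      exact zero_ne_one this
    have hlin : ∀ v, y1 v = 0 → pw (act A v) = pw v + sm (za v * ε) w0 := fun v hv => by
      conv_lhs => rw [decomp hv]
      simp only [act_add, act_sm, pw_add, pw_sm, hAe, pw_e1, e1', e2', hAk, hAwp]
      rw [eq_iff_coord]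
      simp [pw, sm, h1, h2, k0, w0, SuzukiType.mk, x1, y1, x2, y2, za, zb]
      ring
    rcases z2 ε with rfl | rfl
    · refine hnR ⟨hAe, fun v hv => pw_cases (by rw [y1_add, hy1A, hv, add_zero]) ?_⟩
      rw [pw_add, hlin v hv, mul_zero, sm_zero, add_zero, add_self_V]
    · refine rfl'_notMem basis_k.2.1 ?_
      have hRad : InRad (rfl' w0 * A) := by
        refine ⟨?_, fun v hv => ?_⟩
        · rw [act_mul, hAe, act_rfl' basis_k.2.1]; decide
        · have hz0 : y1 (act A v) = 0 := by rw [hy1A, hv]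
          rw [act_mul, act_rfl' basis_k.2.1, R]
          refine pw_cases ?_ ?_
          · rw [y1_add, y1_add, hz0, hv, add_zero, zero_add]
            show _ * y1 w0 = 0
            rw [inW_w0.2, mul_zero]
          · have hb : bf w0 (act A v) = za v := by
              rw [bf_comm, ← bf_pw hz0 inW_w0, hbw v hv]
              simp [bf, w0, SuzukiType.mk, x1, y1, x2, y2, za, zb] at hv ⊢
            rw [pw_add, pw_add, hlin v hv, hb, mul_one, pw_sm, pw_eq inW_w0, add_assoc (pw v),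
              add_self_V, add_zero, add_self_V]
      have h6 := mul_mem (S.inRad_omega hRad) (inv_mem (S.act'_omega n))
      rwa [← hA, mul_inv_cancel_right] at h6
  · -- the two singular vectors are exchanged
    obtain ⟨j, hj, hjv⟩ := S.F.surj h1
    have hj0 : y1 (S.F.vec j) = 0 := by rw [hjv]; exact hW1.2
    have c1 : j * k = k * j := (S.comm_iff hj hk).2 (by rw [hjv, hkv]; exact b1k)
    have c2 : m * j = j * m := by
      have h7 := S.m_comm hm hmz hj hj0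
      rwa [hmw, hjv, bf_comm, b1w, zp_zero, zp_zero, mul_one, one_mul] at h7
    have hjx : j * x = x * j := by rw [hx, ← mul_assoc, c1, mul_assoc, ← c2, ← mul_assoc]
    set ν := n * j * n⁻¹ * j⁻¹ with hν
    have hνx : ν ∈ Qx := by
      rw [hν, show n * j * n⁻¹ * j⁻¹ = n * (j * n⁻¹ * j⁻¹) by group]
      exact Qx.mul_mem hnQ (hCx.conj_mem hjx (Qx.inv_mem hnQ))
    have hnj : n * j * n⁻¹ ∈ Q := S.h.conj_mem hnz hj
    have hνQ : ν ∈ Q := Q.mul_mem hnj (Q.inv_mem hj)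
    have hνv : S.F.vec ν = act A h1 + h1 := by
      rw [hν, S.F.vec_mul hnj (Q.inv_mem hj), S.vec_inv hj, S.vec_conj hnz hj, hjv, hA]
    have hνq : qf (S.F.vec ν) = 1 := by
      rw [hνv, ← qf_pw (by rw [y1_add, hy1A, hW1.2, add_zero]), pw_add, e1', pw_eq hW1, add_comm]
      exact q12
    have hsqν := S.F.sq hνQ
    rw [hνq, zp_one] at hsqν
    rcases hCx.sq_cases hνx with e | e <;> rw [e] at hsqν
    · exact S.h.ne_one hsqν.symm
    · exact hxQ (hsqν ▸ S.h.z_mem)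

end St

end Cfsg.Agent.SuzukiType
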