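import Cfsg.Agent.Lib.SuzukiType.Frame
import Cfsg.Agent.Lib.LargeExtra.Structure

/-!
The two extraspecial groups attached to `z` and `a`: squares and commutators in
`C_Q(a) C_{Q'}(z)`.
-/

set_option autoImplicit false

namespace Cfsg.Agent.SuzukiType

open Subgroup Cfsg.Agent.LargeExtra Cfsg.Agent.OctadInv.Orbits
open scoped commutatorElement

variable {G : Type*} [Group G]

/-- The data. -/
structure St (Q Q' : Subgroup G) (z a : G) where
  P : Pair₂ Q Q' z a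
  F : Frame Q z a

section
variable {z a : G}

theorem inv_z {x : G} (hx : x * z = z * x) : x⁻¹ * z = z * x⁻¹ :=
  (show Commute x z from hx).inv_left.eq

theorem mul_z {x y : G} (hx : x * z = z * x) (hy : y * z = z * y) : x * y * z = z * (x * y) :=
  ((show Commute x z from hx).mul_left hy).eq

theorem sm_cases {v : V} (h : v = 0 ∨ v = e1) : ∃ t, v = sm t e1 := by
  rcases h with rfl | rfl
  · exact ⟨0, (sm_zero _).symm⟩
  · exact ⟨1, (sm_one _).symm⟩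

theorem four_comm {x : G} (hxz : x * z = z * x) (hxa : x * a = a * x) (s t : ZMod 2) :
    x * (zp z s * zp a t) = zp z s * zp a t * x := by
  rw [← mul_assoc, zp_comm hxz, mul_assoc, zp_comm hxa, mul_assoc]

end

theorem pw_act {g : O6} (hg : InRad g) {v : V} (hv : y1 v = 0) : pw (act g v) = pw v := by
  rcases hg.2 v hv with e | e
  · rw [eq_of_add _ _ e]
  · apply eq_of_add
    rw [← pw_add, e, pw_e1]

namespace St

variable {Q Q' : Subgroup G} {z a : G} (S : St Q Q' z a)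
include S

theorem h : Ctr Q z := S.P.p.h

theorem h' : Ctr Q' a := S.P.p.h'

theorem qz {x : G} (hx : x ∈ Q) : x * z = z * x := S.h.comm hx

theorem qa {x : G} (hx : x ∈ Q') : x * a = a * x := S.h'.comm hx

theorem mem_a : a ∈ Q := S.P.p.mem

theorem mem_z' : z ∈ Q' := S.P.p'.mem

theorem mem_a' : a ∈ Q' := S.h'.z_mem

/-- The isometry induced by an element of `C(z)`. -/
noncomputable def act' (x : G) : O6 :=
  haveI := _root_.Classical.propDecidable (x * z = z * x)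
  if hx : x * z = z * x then S.F.π ⟨x, mem_centralizer_singleton_iff.2 hx⟩ else 1

theorem act'_def {x : G} (hx : x * z = z * x) :
    S.act' x = S.F.π ⟨x, mem_centralizer_singleton_iff.2 hx⟩ := dif_pos hx

theorem act'_mul {x y : G} (hx : x * z = z * x) (hy : y * z = z * y) :
    S.act' (x * y) = S.act' x * S.act' y := by
  rw [S.act'_def hx, S.act'_def hy, S.act'_def (x := x * y) (by rw [mul_assoc, hy, ← mul_assoc, hx, mul_assoc]),
    ← map_mul]
  rfl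

theorem act'_one_iff {x : G} (hx : x * z = z * x) : S.act' x = 1 ↔ x ∈ Q := by
  rw [S.act'_def hx]; exact S.F.ker _

theorem act'_q {x : G} (hx : x ∈ Q) : S.act' x = 1 := (S.act'_one_iff (S.qz hx)).2 hx

theorem act'_inv {x : G} (hx : x * z = z * x) : S.act' x⁻¹ = (S.act' x)⁻¹ := by
  apply eq_inv_of_mul_eq_one_left
  rw [← S.act'_mul (inv_z hx) hx, inv_mul_cancel, S.act'_q Q.one_mem]

theorem act'_omega (x : G) : S.act' x ∈ Cfsg.Omega (ZMod 2) ⇑F6 := by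
  unfold act'
  split_ifs with hx
  · exact S.F.mem_omega _
  · exact one_mem _

theorem vec_conj {c x : G} (hc : c * z = z * c) (hx : x ∈ Q) :
    S.F.vec (c * x * c⁻¹) = act (S.act' c) (S.F.vec x) := by
  rw [S.act'_def hc]
  exact S.F.vec_conj ⟨c, _⟩ hx

theorem vec_inv {x : G} (hx : x ∈ Q) : S.F.vec x⁻¹ = S.F.vec x := by
  have h0 := S.F.vec_mul (Q.inv_mem hx) hx
  rw [inv_mul_cancel, S.F.vec_one] at h0
  exact eq_of_add _ _ h0.symm

theorem comm_iff {x y : G} (hx : x ∈ Q) (hy : y ∈ Q) : x * y = y * x ↔ bf (S.F.vec x) (S.F.vec y) = 0 := by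
  have h0 := S.F.comm hx hy
  rcases z2 (bf (S.F.vec x) (S.F.vec y)) with e | e <;> rw [e] at h0
  · rw [zp_zero, one_mul] at h0
    exact iff_of_true h0 e
  · refine iff_of_false (fun e' => S.h.ne_one ?_) (by rw [e]; exact one_ne_zero)
    rw [← e', zp_one] at h0
    exact mul_eq_right.1 h0.symm

theorem comm_a_iff {x : G} (hx : x ∈ Q) : x * a = a * x ↔ y1 (S.F.vec x) = 0 := by
  rw [S.comm_iff hx S.mem_a, S.F.vec_a, bf_e1]

theorem zp_mem (t : ZMod 2) : zp z t ∈ Q := Q.pow_mem S.h.z_mem _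

theorem zpa_mem (t : ZMod 2) : zp a t ∈ Q := Q.pow_mem S.mem_a _

theorem vec_zp (t : ZMod 2) : S.F.vec (zp z t) = 0 := by
  rcases z2 t with rfl | rfl
  · rw [zp_zero, S.F.vec_one]
  · rw [zp_one, S.F.vec_z]

theorem vec_zpa (t : ZMod 2) : S.F.vec (zp a t) = sm t e1 := by
  rcases z2 t with rfl | rfl
  · rw [zp_zero, S.F.vec_one, sm_zero]
  · rw [zp_one, S.F.vec_a, sm_one]

/-- Elements of `⟨z, a⟩` from their coordinates. -/
theorem eq_zp {x : G} (hx : x ∈ Q) {t : ZMod 2} (he : S.F.vec x = sm t e1) :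
    ∃ s, x = zp z s * zp a t := by
  have h1 : x * (zp a t)⁻¹ ∈ Q := Q.mul_mem hx (Q.inv_mem (S.zpa_mem t))
  have h2 : S.F.vec (x * (zp a t)⁻¹) = 0 := by
    rw [S.F.vec_mul hx (Q.inv_mem (S.zpa_mem t)), S.vec_inv (S.zpa_mem t), S.vec_zpa, he, add_self_V]
  rcases S.F.vec_cases h1 h2 with e | e
  · exact ⟨0, by rw [zp_zero, one_mul, mul_inv_eq_one.1 e]⟩
  · exact ⟨1, by rw [zp_one, ← mul_inv_eq_iff_eq_mul.1 e]⟩

theorem four_mem' (s t : ZMod 2) : zp z s * zp a t ∈ Q' :=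
  Q'.mul_mem (Q'.pow_mem S.mem_z' _) (Q'.pow_mem S.mem_a' _)

/-- A lift fixing `a` of an element of `Ω` fixing `e1`. -/
theorem exists_fix [Finite G] {A : O6} (hA : A ∈ Cfsg.Omega (ZMod 2) ⇑F6) (he : act A e1 = e1) :
    ∃ c, c * z = z * c ∧ c * a = a * c ∧ S.act' c = A := by
  obtain ⟨⟨c, hc⟩, hcA⟩ := S.F.lift A hA
  have hcz := mem_centralizer_singleton_iff.1 hc
  have hA' : S.act' c = A := by rw [S.act'_def hcz]; exact hcA
  have hm : c * a * c⁻¹ ∈ Q := S.h.conj_mem hcz S.mem_a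
  have hv : S.F.vec (c * a * c⁻¹) = sm 1 e1 := by
    rw [S.vec_conj hcz S.mem_a, hA', S.F.vec_a, he, sm_one]
  obtain ⟨s, hs⟩ := S.eq_zp hm hv
  rcases z2 s with rfl | rfl
  · rw [zp_zero, one_mul, zp_one] at hs
    exact ⟨c, hcz, mul_inv_eq_iff_eq_mul.1 hs, hA'⟩
  · rw [zp_one, zp_one] at hs
    obtain ⟨q, hq, hqa⟩ := S.P.p.exists_swap
    refine ⟨q * c, mul_z (S.qz hq) hcz, mul_inv_eq_iff_eq_mul.1 ?_, by
      rw [S.act'_mul (S.qz hq) hcz, S.act'_q hq, one_mul, hA']⟩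
    calc q * c * a * (q * c)⁻¹ = q * (c * a * c⁻¹) * q⁻¹ := by group
      _ = (q * z * q⁻¹) * (q * a * q⁻¹) := by rw [hs]; group
      _ = a := by rw [S.h.conj_z hq, hqa, S.P.p.z_za]

variable [Finite G]

/-- The intersection of the two groups. -/
theorem inf_vec {x : G} (hx : x ∈ Q) (hx' : x ∈ Q') : ∃ t, S.F.vec x = sm t e1 := by
  have hsq : ∀ y ∈ Q, y ∈ Q' → qf (S.F.vec y) = 0 := by
    intro y hy hy'
    rcases z2 (qf (S.F.vec y)) with e | e
    · exact e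
    · exfalso
      have h0 := S.F.sq hy
      rw [e, zp_one] at h0
      rcases S.h'.sq_cases hy' with e' | e' <;> rw [e'] at h0
      · exact S.h.ne_one h0.symm
      · exact S.P.p.ne h0
  have hy1 : y1 (S.F.vec x) = 0 := (S.comm_a_iff hx).1 (S.qa hx')
  refine sm_cases ?_
  by_contra hc
  push Not at hc
  obtain ⟨r, hr, hre, s, hs, hse, hb⟩ := move_inter _ (hsq x hx hx') (by rw [bf_e1, hy1]) hc.1 hc.2
  have hAe : act (rfl' r * rfl' s) e1 = e1 := by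
    rw [act_mul, act_rfl' hs, R, hse, sm_zero, add_zero, act_rfl' hr, R, hre, sm_zero, add_zero]
  obtain ⟨c, hcz, hca, hcA⟩ := S.exists_fix (pair_mem hr hs) hAe
  have h1 : c * x * c⁻¹ ∈ Q := S.h.conj_mem hcz hx
  have h1' : c * x * c⁻¹ ∈ Q' := S.h'.conj_mem hca hx'
  have h2 := hsq _ (Q.mul_mem hx h1) (Q'.mul_mem hx' h1')
  rw [S.F.vec_mul hx h1, S.vec_conj hcz hx, hcA, qf_add, act_qf, hsq x hx hx', act_mul, act_rfl' hs,
    act_rfl' hr, hb] at h2
  exact absurd h2 (by decide)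

theorem inf_four {x : G} (hx : x ∈ Q) (hx' : x ∈ Q') : ∃ s t, x = zp z s * zp a t := by
  obtain ⟨t, ht⟩ := S.inf_vec hx hx'
  obtain ⟨s, hs⟩ := S.eq_zp hx ht
  exact ⟨s, t, hs⟩

/-- `C_{Q'}(z)` induces the transvection group. -/
theorem inRad {m : G} (hm : m ∈ Q') (hmz : m * z = z * m) : InRad (S.act' m) := by
  refine ⟨?_, fun v hv => ?_⟩
  · conv_lhs => rw [← S.F.vec_a, ← S.vec_conj hmz S.mem_a, S.qa hm, mul_inv_cancel_right]
    exact S.F.vec_a
  · obtain ⟨k, hk, rfl⟩ := S.F.surj v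
    have h1 : m * k * m⁻¹ ∈ Q := S.h.conj_mem hmz hk
    have h2 : m * k * m⁻¹ * k⁻¹ ∈ Q' := by
      have hka : k * a = a * k := (S.comm_a_iff hk).2 hv
      rw [show m * k * m⁻¹ * k⁻¹ = m * (k * m⁻¹ * k⁻¹) by group]
      exact Q'.mul_mem hm (S.h'.conj_mem hka (Q'.inv_mem hm))
    obtain ⟨t, ht⟩ := S.inf_vec (Q.mul_mem h1 (Q.inv_mem hk)) h2
    rw [S.F.vec_mul h1 (Q.inv_mem hk), S.vec_inv hk, S.vec_conj hmz hk] at ht
    rcases z2 t with rfl | rfl
    · exact Or.inl (ht.trans (sm_zero _))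
    · exact Or.inr (ht.trans (sm_one _))

/-- An element exchanging `z` and `a`, applied to `C_Q(a)`. -/
theorem swap_conj {q n k : G} (hq : q ∈ Q) (hqv : S.F.vec q = f1) (hn : n ∈ Q')
    (hnz : n * z * n⁻¹ = z * a) (hk : k ∈ Q) (hk0 : y1 (S.F.vec k) = 0) :
    (q * n * q) * z * (q * n * q)⁻¹ = a ∧ (q * n * q) * a * (q * n * q)⁻¹ = z ∧
    q * n * q * k * (q * n * q)⁻¹ ∈ Q' ∧
    q * n * q * k * (q * n * q)⁻¹ * z = z * (q * n * q * k * (q * n * q)⁻¹) ∧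
    wof (S.act' (q * n * q * k * (q * n * q)⁻¹)) = pw (S.F.vec k) := by
  have hqa : q * a * q⁻¹ = z * a := (S.P.p.conj_a hq).resolve_left fun e => by
    have := (S.comm_a_iff hq).1 (mul_inv_eq_iff_eq_mul.1 e)
    rw [hqv, y1_f1] at this
    exact one_ne_zero this
  have hqz : q * z * q⁻¹ = z := S.h.conj_z hq
  have hna : n * a * n⁻¹ = a := S.h'.conj_z hn
  have hqza : q * (z * a) * q⁻¹ = a := by
    calc q * (z * a) * q⁻¹ = (q * z * q⁻¹) * (q * a * q⁻¹) := by group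
      _ = a := by rw [hqz, hqa, S.P.p.z_za]
  have hnza : n * (z * a) * n⁻¹ = z := by
    calc n * (z * a) * n⁻¹ = (n * z * n⁻¹) * (n * a * n⁻¹) := by group
      _ = z := by rw [hnz, hna, mul_assoc, S.h'.zz, mul_one]
  have huz : (q * n * q) * z * (q * n * q)⁻¹ = a := by
    calc (q * n * q) * z * (q * n * q)⁻¹ = q * (n * (q * z * q⁻¹) * n⁻¹) * q⁻¹ := by group
      _ = a := by rw [hqz, hnz, hqza]
  have hua : (q * n * q) * a * (q * n * q)⁻¹ = z := by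
    calc (q * n * q) * a * (q * n * q)⁻¹ = q * (n * (q * a * q⁻¹) * n⁻¹) * q⁻¹ := by group
      _ = z := by rw [hqa, hnza, hqz]
  refine ⟨huz, hua, ?_⟩
  have hka : k * a = a * k := (S.comm_a_iff hk).2 hk0
  have hmQ' : q * n * q * k * (q * n * q)⁻¹ ∈ Q' := by
    rw [S.P.p.link _ huz]
    simpa [mul_assoc] using hk
  have hmz : q * n * q * k * (q * n * q)⁻¹ * z = z * (q * n * q * k * (q * n * q)⁻¹) := by
    generalize q * n * q = u at hua
    rw [← hua]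
    simp only [mul_assoc, inv_mul_cancel_left]
    rw [← mul_assoc k, hka, mul_assoc]
  refine ⟨hmQ', hmz, ?_⟩
  -- the middle step
  set k1 := q * k * q⁻¹ with hk1
  have hk1Q : k1 ∈ Q := Q.mul_mem (Q.mul_mem hq hk) (Q.inv_mem hq)
  have hk1v : S.F.vec k1 = S.F.vec k := by
    rw [hk1, S.F.vec_mul (Q.mul_mem hq hk) (Q.inv_mem hq), S.F.vec_mul hq hk, S.vec_inv hq,
      add_comm (S.F.vec q), add_assoc, add_self_V, add_zero]
  have hk1a : k1 * a = a * k1 := (S.comm_a_iff hk1Q).2 (by rw [hk1v, hk0])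
  set m1 := n * k1 * n⁻¹ * k1⁻¹ with hm1
  have hm1' : m1 ∈ Q' := by
    rw [hm1, show n * k1 * n⁻¹ * k1⁻¹ = n * (k1 * n⁻¹ * k1⁻¹) by group]
    exact Q'.mul_mem hn (S.h'.conj_mem hk1a (Q'.inv_mem hn))
  have hnk : (n * k1 * n⁻¹) * z = z * (n * k1 * n⁻¹) := by
    have h1 : k1 * (z * a) = z * a * k1 := by
      rw [← mul_assoc, S.qz hk1Q, mul_assoc, hk1a, mul_assoc]
    calc (n * k1 * n⁻¹) * z = n * (k1 * (z * a)) * n⁻¹ := by
          conv_lhs => rw [← hnza]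
          group
      _ = (n * (z * a) * n⁻¹) * (n * k1 * n⁻¹) := by rw [h1]; group
      _ = _ := by rw [hnza]
  have hm1z : m1 * z = z * m1 := mul_z hnk (inv_z (S.qz hk1Q))
  set m := q * n * q * k * (q * n * q)⁻¹ with hm
  set k3 := q * (m1 * q⁻¹ * m1⁻¹) with hk3
  have hk3Q : k3 ∈ Q := Q.mul_mem hq (S.h.conj_mem hm1z (Q.inv_mem hq))
  set k4 := m1 * (q * k1 * q⁻¹) * m1⁻¹ with hk4
  have hk2Q : q * k1 * q⁻¹ ∈ Q := Q.mul_mem (Q.mul_mem hq hk1Q) (Q.inv_mem hq)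
  have hk4Q : k4 ∈ Q := S.h.conj_mem hm1z hk2Q
  have hkey : m * m1⁻¹ = k3 * k4 := by rw [hm, hk3, hk4, hm1, hk1]; group
  have hQQ : k3 * k4 ∈ Q' := hkey ▸ Q'.mul_mem hmQ' (Q'.inv_mem hm1')
  obtain ⟨t, ht⟩ := S.inf_vec (Q.mul_mem hk3Q hk4Q) hQQ
  have hact : S.act' m = S.act' m1 := by
    rw [show m = k3 * k4 * m1 by rw [← hkey, inv_mul_cancel_right],
      S.act'_mul (S.qz (Q.mul_mem hk3Q hk4Q)) hm1z, S.act'_q (Q.mul_mem hk3Q hk4Q), one_mul]
  have hR := S.inRad hm1' hm1z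
  rw [hact, wof]
  rw [S.F.vec_mul hk3Q hk4Q, hk3, hk4, S.F.vec_mul hq (S.h.conj_mem hm1z (Q.inv_mem hq)),
    S.vec_conj hm1z (Q.inv_mem hq), S.vec_inv hq, hqv, S.vec_conj hm1z hk2Q,
    S.F.vec_mul (Q.mul_mem hq hk1Q) (Q.inv_mem hq), S.F.vec_mul hq hk1Q, S.vec_inv hq,
    add_comm (S.F.vec q), add_assoc (S.F.vec k1), add_self_V, add_zero, hk1v] at ht
  have h3 := congrArg pw ht
  rw [pw_add, pw_add, pw_f1, zero_add, pw_act hR hk0, pw_sm, pw_e1, sm_eq, smul_zero] at h3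
  exact eq_of_add _ _ h3

theorem exists_q : ∃ q ∈ Q, S.F.vec q = f1 := S.F.surj f1

theorem exists_n : ∃ n ∈ Q', n * z * n⁻¹ = z * a := by
  obtain ⟨n, hn, e⟩ := S.P.p'.exists_swap
  exact ⟨n, hn, e.trans S.P.p.az⟩

/-- Every parameter occurs. -/
theorem exists_m {w : V} (hw : InW w) :
    ∃ m ∈ Q', m * z = z * m ∧ m * m = zp a (qf w) ∧ wof (S.act' m) = w := by
  obtain ⟨q, hq, hqv⟩ := S.exists_q
  obtain ⟨n, hn, hnz⟩ := S.exists_n
  obtain ⟨k, hk, rfl⟩ := S.F.surj w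
  obtain ⟨huz, -, hm, hmz, hmw⟩ := S.swap_conj hq hqv hn hnz hk hw.2
  refine ⟨_, hm, hmz, ?_, by rw [hmw, pw_eq hw]⟩
  generalize q * n * q = u at huz
  calc u * k * u⁻¹ * (u * k * u⁻¹) = u * (k * k) * u⁻¹ := by group
    _ = _ := by rw [S.F.sq hk, zp, zp, ← conj_pow, huz]

/-- `π(C_{Q'}(z))` is the whole transvection group. -/
theorem exists_m_of_inRad {g : O6} (hg : InRad g) : ∃ m ∈ Q', m * z = z * m ∧ S.act' m = g := by
  obtain ⟨m, hm, hmz, -, hmw⟩ := S.exists_m (inW_wof g)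
  exact ⟨m, hm, hmz, (S.inRad hm hmz).ext' hg hmw⟩

theorem inRad_omega {g : O6} (hg : InRad g) : g ∈ Cfsg.Omega (ZMod 2) ⇑F6 := by
  obtain ⟨m, -, -, rfl⟩ := S.exists_m_of_inRad hg
  exact S.act'_omega m

theorem same_act {m m' : G} (hm : m ∈ Q') (hmz : m * z = z * m) (hm' : m' ∈ Q')
    (hm'z : m' * z = z * m') (e : S.act' m = S.act' m') : ∃ s t, m = zp z s * zp a t * m' := by
  have h1 : m * m'⁻¹ ∈ Q := (S.act'_one_iff (mul_z hmz (inv_z hm'z))).1 (by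
    rw [S.act'_mul hmz (inv_z hm'z), S.act'_inv hm'z, e, mul_inv_cancel])
  obtain ⟨s, t, hst⟩ := S.inf_four h1 (Q'.mul_mem hm (Q'.inv_mem hm'))
  exact ⟨s, t, mul_inv_eq_iff_eq_mul.1 hst⟩

theorem four_sq (s t : ZMod 2) : zp z s * zp a t * (zp z s * zp a t) = 1 := by
  have hc : Commute (zp a t) (zp z s) := ((show Commute a z from S.P.p.az).pow_left _).pow_right _
  rw [hc.mul_mul_mul_comm, ← zp_add S.h.zz, ← zp_add S.h'.zz, CharTwo.add_self_eq_zero,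
    CharTwo.add_self_eq_zero, zp_zero, zp_zero, mul_one]

/-- Squares in `C_{Q'}(z)`. -/
theorem m_sq {m : G} (hm : m ∈ Q') (hmz : m * z = z * m) : m * m = zp a (qf (wof (S.act' m))) := by
  obtain ⟨m', hm', hm'z, hsq, hw⟩ := S.exists_m (inW_wof (S.act' m))
  obtain ⟨s, t, rfl⟩ := S.same_act hm hmz hm' hm'z ((S.inRad hm' hm'z).ext' (S.inRad hm hmz) hw).symm
  calc zp z s * zp a t * m' * (zp z s * zp a t * m')
      = zp z s * zp a t * (m' * (zp z s * zp a t)) * m' := by group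
    _ = (zp z s * zp a t * (zp z s * zp a t)) * (m' * m') := by
        rw [four_comm hm'z (S.qa hm')]; group
    _ = _ := by rw [S.four_sq, one_mul, hsq]

/-- Commutators between the two parts. -/
theorem m_comm {m k : G} (hm : m ∈ Q') (hmz : m * z = z * m) (hk : k ∈ Q)
    (hk0 : y1 (S.F.vec k) = 0) :
    m * k = zp z (bf (wof (S.act' m)) (S.F.vec k)) * zp a (bf (wof (S.act' m)) (S.F.vec k)) * (k * m) := by
  obtain ⟨q, hq, hqv⟩ := S.exists_q
  obtain ⟨n, hn, hnz⟩ := S.exists_n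
  have hna : n * a * n⁻¹ = a := S.h'.conj_z hn
  have hni : n⁻¹ * z * n⁻¹⁻¹ = z * a := by
    have hnza : n * (z * a) * n⁻¹ = z := by
      calc n * (z * a) * n⁻¹ = (n * z * n⁻¹) * (n * a * n⁻¹) := by group
        _ = z := by rw [hnz, hna, mul_assoc, S.h'.zz, mul_one]
    conv_lhs => rw [← hnza]
    group
  obtain ⟨huz, hua, -⟩ := S.swap_conj hq hqv hn hnz hk hk0
  obtain ⟨hvz, hva, hm2, hm2z, hm2w⟩ :=
    S.swap_conj (Q.inv_mem hq) ((S.vec_inv hq).trans hqv) (Q'.inv_mem hn) hni hk hk0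
  have hv' : q⁻¹ * n⁻¹ * q⁻¹ = (q * n * q)⁻¹ := by group
  rw [hv'] at hvz hva hm2 hm2z hm2w
  generalize hu : q * n * q = u at huz hua hvz hva hm2 hm2z hm2w
  rw [inv_inv] at hvz hva hm2 hm2z hm2w
  set k1 := u⁻¹ * m * u with hk1
  have hk1Q : k1 ∈ Q := (S.P.p.link u huz m).1 hm
  have hk1a : k1 * a = a * k1 := by
    calc k1 * a = u⁻¹ * (m * (u * a * u⁻¹)) * u := by rw [hk1]; group
      _ = u⁻¹ * (z * m) * u := by rw [hua, hmz]
      _ = (u⁻¹ * z * u) * k1 := by rw [hk1]; group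
      _ = _ := by rw [hvz]
  have hk10 : y1 (S.F.vec k1) = 0 := (S.comm_a_iff hk1Q).1 hk1a
  have hwm : wof (S.act' m) = pw (S.F.vec k1) := by
    have h1 := (S.swap_conj hq hqv hn hnz hk1Q hk10).2.2.2.2
    rw [hu] at h1
    rwa [show u * k1 * u⁻¹ = m by rw [hk1]; group] at h1
  set m2 := u⁻¹ * k * u with hm2d
  -- the two commutators
  have key : ∀ {m k : G}, m ∈ Q' → m * z = z * m → k ∈ Q → y1 (S.F.vec k) = 0 →
      ∃ δ, m * k * m⁻¹ * k⁻¹ = zp z δ * zp a (bf (wof (S.act' m)) (S.F.vec k)) := by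
    intro m k hm hmz hk hk0
    have h1 : m * k * m⁻¹ ∈ Q := S.h.conj_mem hmz hk
    refine S.eq_zp (Q.mul_mem h1 (Q.inv_mem hk)) ?_
    rw [S.F.vec_mul h1 (Q.inv_mem hk), S.vec_inv hk, S.vec_conj hmz hk, (S.inRad hm hmz).act_eq,
      T_of_y1 _ hk0]
  obtain ⟨δ, hδ⟩ := key hm hmz hk hk0
  obtain ⟨δ', hδ'⟩ := key hm2 hm2z hk1Q hk10
  have hB : bf (wof (S.act' m2)) (S.F.vec k1) = bf (wof (S.act' m)) (S.F.vec k) := by
    rw [hm2w, hwm, bf_comm, ← bf_pw hk10 (pw_mem _), bf_comm (pw (S.F.vec k1)) (S.F.vec k),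
      ← bf_pw hk0 (pw_mem _), bf_comm]
  have hd : u⁻¹ * (m * k * m⁻¹ * k⁻¹) * u = (m2 * k1 * m2⁻¹ * k1⁻¹)⁻¹ := by rw [hk1, hm2d]; group
  rw [hδ, hδ', hB] at hd
  set B := bf (wof (S.act' m)) (S.F.vec k) with hBd
  have hswap : u⁻¹ * (zp z δ * zp a B) * u = zp a δ * zp z B := by
    have e1 : u⁻¹ * zp z δ * u = zp a δ := by
      have := conj_pow (i := δ.val) (a := u⁻¹) (b := z)
      rw [inv_inv, hvz] at this
      exact this.symm
    have e2 : u⁻¹ * zp a B * u = zp z B := by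
      have := conj_pow (i := B.val) (a := u⁻¹) (b := a)
      rw [inv_inv, hva] at this
      exact this.symm
    rw [← e1, ← e2]; group
  rw [hswap] at hd
  have h5 := congrArg S.F.vec hd
  rw [S.vec_inv (Q.mul_mem (S.zp_mem _) (S.zpa_mem _)), S.F.vec_mul (S.zpa_mem _) (S.zp_mem _),
    S.F.vec_mul (S.zp_mem _) (S.zpa_mem _), S.vec_zp, S.vec_zp, S.vec_zpa, S.vec_zpa, add_zero,
    zero_add] at h5
  have hδB : δ = B := by
    have := congrArg x1 h5
    have he : x1 e1 = 1 := rfl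
    simp only [x1, sm] at this he
    simpa [he] using this
  rw [hδB] at hδ
  rw [← hδ]; group

end St

end Cfsg.Agent.SuzukiType
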