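import Mathlib
import Cfsg.Prelude.Def_Classical

/-!
The six-dimensional quadratic space of minus type over the field with two elements: explicit
form, reflections, the transvection group of a singular vector, and finite checks.
-/

set_option autoImplicit false
set_option maxRecDepth 20000
set_option synthInstance.maxSize 4096

namespace Cfsg.Agent.SuzukiType

/-- The space. -/
abbrev V : Type := (Fin 2 ⊕ Fin 2) ⊕ Fin 2 → ZMod 2

/-- A vector from its six coordinates. -/
def mk (a b c d e f : ZMod 2) : V := Sum.elim (Sum.elim ![a, c] ![b, d]) ![e, f]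

def x1 (v : V) : ZMod 2 := v (.inl (.inl 0))
def y1 (v : V) : ZMod 2 := v (.inl (.inr 0))
def x2 (v : V) : ZMod 2 := v (.inl (.inl 1))
def y2 (v : V) : ZMod 2 := v (.inl (.inr 1))
def za (v : V) : ZMod 2 := v (.inr 0)
def zb (v : V) : ZMod 2 := v (.inr 1)

/-- The form. -/
def qf (v : V) : ZMod 2 := x1 v * y1 v + x2 v * y2 v + (za v * za v + za v * zb v + zb v * zb v)

/-- The polar form. -/
def bf (v w : V) : ZMod 2 :=
  x1 v * y1 w + y1 v * x1 w + (x2 v * y2 w + y2 v * x2 w) + (za v * zb w + zb v * za w)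

def e1 : V := mk 1 0 0 0 0 0
def f1 : V := mk 0 1 0 0 0 0
def h1 : V := mk 0 0 1 0 0 0
def h2 : V := mk 0 0 0 1 0 0
def k0 : V := mk 0 0 0 0 1 0
def w0 : V := mk 0 0 0 0 0 1

/-- The projection to the complement of the hyperbolic line of `e1, f1`. -/
def pw (v : V) : V := mk 0 0 (x2 v) (y2 v) (za v) (zb v)

/-- Scalar multiple. -/
def sm (t : ZMod 2) (v : V) : V := fun i => t * v i

/-- The reflection in `r`. -/
def R (r v : V) : V := v + sm (bf r v) r

/-- The element with parameter `w` fixing `e1` and trivial on `e1ᗮ/e1`. -/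
def T (w v : V) : V := v + sm (bf w v) e1 + sm (y1 v) (sm (qf w) e1 + w)

theorem eq_mk (v : V) : v = mk (x1 v) (y1 v) (x2 v) (y2 v) (za v) (zb v) := by
  funext i
  rcases i with (i | i) | i <;> fin_cases i <;> rfl

/-- Membership in the complement. -/
abbrev InW (v : V) : Prop := x1 v = 0 ∧ y1 v = 0

theorem forall_mk {P : V → Prop} : (∀ v, P v) ↔ ∀ a b c d e f : ZMod 2, P (mk a b c d e f) :=
  ⟨fun h _ _ _ _ _ _ => h _, fun h v => by rw [eq_mk v]; exact h _ _ _ _ _ _⟩

theorem exists_mk {P : V → Prop} : (∃ v, P v) ↔ ∃ a b c d e f : ZMod 2, P (mk a b c d e f) :=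
  ⟨fun ⟨v, h⟩ => ⟨_, _, _, _, _, _, (eq_mk v) ▸ h⟩, fun ⟨_, _, _, _, _, _, h⟩ => ⟨_, h⟩⟩

theorem eq_iff_coord (v w : V) : v = w ↔
    x1 v = x1 w ∧ y1 v = y1 w ∧ x2 v = x2 w ∧ y2 v = y2 w ∧ za v = za w ∧ zb v = zb w :=
  ⟨fun h => by subst h; simp, fun ⟨h1, h2, h3, h4, h5, h6⟩ => by
    rw [eq_mk v, eq_mk w, h1, h2, h3, h4, h5, h6]⟩

/-! ### Checks -/

/-- Two reflections carry any singular vector to `e1`. -/
theorem transitive : ∀ v : V, v ≠ 0 → qf v = 0 →
    v = e1 ∨ ∃ r, qf r = 1 ∧ ∃ s, qf s = 1 ∧ R r (R s v) = e1 := by decide +kernel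

/-- A singular vector orthogonal to `e1` is moved to a non-orthogonal one. -/
theorem move_inter : ∀ b : V, qf b = 0 → bf b e1 = 0 → b ≠ 0 → b ≠ e1 →
    ∃ r, qf r = 1 ∧ bf r e1 = 0 ∧ ∃ s, qf s = 1 ∧ bf s e1 = 0 ∧ bf b (R r (R s b)) = 1 := by
  decide +kernel

/-- The determination of an element of the transvection group. -/
theorem determine : ∀ u v : V, qf u = 0 → bf u e1 = 1 → ∀ t : ZMod 2,
    bf u (v + sm (y1 v) f1 + sm t e1) = bf f1 (v + sm (y1 v) f1) →
    v + sm (y1 v) f1 + sm t e1 + sm (y1 v) u = T (pw u) v := by decide +kernel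

/-- The image of `T w0 - 1` has one singular non-zero vector. -/
theorem image_T : ∀ t : V, qf (T w0 t + t) = 0 → T w0 t + t = 0 ∨ T w0 t + t = e1 := by decide +kernel

/-- `T w` moves the vectors outside `e1ᗮ` out of `⟨e1⟩`. -/
theorem move_T : ∀ w v : V, InW w → w ≠ 0 → (T w v + v = 0 ∨ T w v + v = e1) → bf v e1 = 0 := by
  decide +kernel

/-- The pairs of type zero. -/
theorem pair_zero : ∀ k w : V, InW k → InW w → qf k = 0 → qf w = 0 → bf w k = 0 → w ≠ 0 →
    k = 0 ∨ k = w := by decide +kernel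

/-- The non-singular vectors of the complement are reached from `w0`. -/
theorem trans_w : ∀ w : V, InW w → qf w = 1 →
    ∃ r, qf r = 1 ∧ InW r ∧ ∃ s, qf s = 1 ∧ InW s ∧ R r (R s w0) = w := by decide +kernel

/-- The stabilizer of `w0` is transitive on the partners. -/
theorem trans_k : ∀ k : V, InW k → qf k = 1 → bf w0 k = 1 →
    ∃ r, qf r = 1 ∧ InW r ∧ bf r w0 = 0 ∧ ∃ s, qf s = 1 ∧ InW s ∧ bf s w0 = 0 ∧
      R r (R s k0) = k := by decide +kernel

/-- A pair of type one is separated. -/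
theorem separate : ∀ k w : V, InW k → InW w → bf w k = 1 → ∀ s t : ZMod 2,
    ∃ u, InW u ∧ bf u k = s ∧ bf u w = t := by decide +kernel

/-- The common orthogonal is not totally isotropic. -/
theorem orth_pair : ∀ k w : V, InW k → InW w → w ≠ 0 → qf k = bf w k → qf w = bf w k →
    ∃ u, InW u ∧ bf u k = 0 ∧ bf u w = 0 ∧ ∃ u', InW u' ∧ bf u' k = 0 ∧ bf u' w = 0 ∧
      bf u u' = 1 := by decide +kernel

/-- The singular vectors of the hyperbolic line inside the complement. -/
theorem sing_h : ∀ v : V, InW v → qf v = 0 → bf v k0 = 0 → bf v w0 = 0 → v ≠ 0 → v = h1 ∨ v = h2 := by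
  decide +kernel

end Cfsg.Agent.SuzukiType
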